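import Cfsg.Prelude.Def_TwoFusion
import Cfsg.Agent.Lib.Spor.Tri.Radical
import Cfsg.Agent.S0144
import Mathlib.GroupTheory.IsSubnormal

/-!
# Maximal normalisers for subgroups with two prime divisors
-/

set_option autoImplicit false

namespace CfsgLib.FGThirteen

open Subgroup

/-- The order of `H` has at most two prime divisors. -/
def Small {G : Type*} [Group G] (H : Subgroup G) : Prop :=
  ∃ p q : ℕ, p.Prime ∧ q.Prime ∧ ∀ r : ℕ, r.Prime → r ∣ Nat.card H → r = p ∨ r = q

/-- The hypothesis of the theorem on `G`. -/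
def SubMax (G : Type*) [Group G] : Prop :=
  ∀ H : Subgroup G, ¬ H.IsSubnormal → Small H → IsCoatom (normalizer (H : Set G))

/-- The hypothesis inherited by the quotient by the solvable radical. -/
def MaxN (X : Type*) [Group X] : Prop :=
  ∀ H : Subgroup X, H ≠ ⊥ → Small H → IsCoatom (normalizer (H : Set X))

variable {G : Type*} [Group G]

/-- A subgroup normalised by a subnormal `K`, contained in it and solvable lies in the radical. -/
theorem le_of_subnormal [Finite G] {R : Subgroup G}
    (hmax : ∀ N : Subgroup G, N.Normal → Group.IsSolvable N → N ≤ R)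
    {K : Subgroup G} (hK : K.IsSubnormal) :
    ∀ N : Subgroup G, N ≤ K → K ≤ normalizer (N : Set G) → Group.IsSolvable N → N ≤ R := by
  induction hK with
  | top => exact fun N _ h hs => hmax N (normalizer_eq_top_iff.1 (top_le_iff.1 h)) hs
  | step K M hKM _ hn ih =>
    intro N hNK hN hs
    have hMK : M ≤ normalizer (K : Set G) := (normal_subgroupOf_iff_le_normalizer hKM).1 hn
    let T : M → Subgroup G := fun m => N.map (MulAut.conj (m : G)).toMonoidHom
    have hTK : ∀ m, T m ≤ K := by
      rintro m _ ⟨x, hx, rfl⟩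
      exact (mem_normalizer_iff.1 (hMK m.2) x).1 (hNK hx)
    have hU : (⨆ m, T m) ≤ K := iSup_le hTK
    have hnorm : ∀ m, (⨆ m, T m) ≤ normalizer (T m : Set G) := by
      intro m k hk
      have hk' : (m : G)⁻¹ * k * m ∈ normalizer (N : Set G) := hN (by
        have := (mem_normalizer_iff.1 (hMK (inv_mem m.2)) k).1 (hU hk)
        simpa using this)
      rw [mem_normalizer_iff]
      intro x
      simp only [SetLike.mem_coe, T, Subgroup.mem_map_equiv, MulAut.conj_symm_apply]
      have e := mem_normalizer_iff.1 hk' ((m : G)⁻¹ * x * m)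
      rw [show ((m : G)⁻¹ * k * m) * ((m : G)⁻¹ * x * m) * ((m : G)⁻¹ * k * m)⁻¹ =
        (m : G)⁻¹ * (k * x * k⁻¹) * m by group] at e
      exact e
    have hsol : Group.IsSolvable ↥(⨆ m, T m) :=
      Spor.Tri.isSolvable_closure_of_normalized T (fun m => le_iSup T m) le_rfl hnorm fun m =>
        Group.isSolvable_of_surjective (f := (N.equivMapOfInjective (MulAut.conj (m : G)).toMonoidHom
          (MulAut.conj (m : G)).injective).toMonoidHom) (MulEquiv.surjective _)
    have hM : M ≤ normalizer ((⨆ m, T m : Subgroup G) : Set G) := by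
      intro a ha
      have hle : ∀ a' ∈ M, ∀ x ∈ ⨆ m, T m, a' * x * a'⁻¹ ∈ ⨆ m, T m := by
        intro a' ha'
        have h' : (⨆ m, T m) ≤ (⨆ m, T m).comap (MulAut.conj a').toMonoidHom := iSup_le fun m x hx => by
          obtain ⟨y, hy, rfl⟩ := hx
          exact le_iSup T (⟨a', ha'⟩ * m) ⟨y, hy, by simp [mul_assoc]⟩
        exact fun x hx => h' hx
      rw [mem_normalizer_iff]
      exact fun x => ⟨fun hx => hle a ha x hx, fun hx => by
        have := hle a⁻¹ (inv_mem ha) _ hx; simpa [mul_assoc] using this⟩
    have h1 : N ≤ ⨆ m, T m := fun x hx => le_iSup T 1 ⟨x, hx, by simp⟩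
    exact h1.trans (ih _ (hU.trans hKM) hM hsol)

theorem Small.solvable [Finite G] {H : Subgroup G} (h : Small H) : Group.IsSolvable H := by
  obtain ⟨p, q, hp, hq, hpq⟩ := h
  have h0 : Nat.card H ≠ 0 := Nat.card_pos.ne'
  rcases eq_or_ne p q with rfl | hne
  · refine Cfsg.Agent.S0144.result p p ((Nat.card H).primeFactorsList.length) 0 hp hp ?_
    rw [pow_zero, mul_one]
    exact Nat.eq_prime_pow_of_unique_prime_dvd h0 fun {r} hr hrd => by
      rcases hpq r hr hrd with e | e <;> exact e
  · refine Cfsg.Agent.S0144.result p q ((Nat.card H).factorization p) ((Nat.card H).factorization q) hp hq ?_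
    refine Nat.eq_of_factorization_eq h0 (mul_ne_zero (pow_ne_zero _ hp.ne_zero) (pow_ne_zero _ hq.ne_zero)) fun r => ?_
    rw [Nat.factorization_mul (pow_ne_zero _ hp.ne_zero) (pow_ne_zero _ hq.ne_zero), hp.factorization_pow,
      hq.factorization_pow, Finsupp.add_apply, Finsupp.single_apply, Finsupp.single_apply]
    by_cases h1 : p = r
    · subst h1; simp [hne.symm]
    by_cases h2 : q = r
    · subst h2; simp [hne]
    simp only [h1, h2, if_false, add_zero]
    by_contra hr
    have hmem := Nat.support_factorization (Nat.card H) ▸ Finsupp.mem_support_iff.2 hr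
    rcases hpq r (Nat.prime_of_mem_primeFactors hmem) (Nat.dvd_of_mem_primeFactors hmem) with e | e
    · exact h1 e.symm
    · exact h2 e.symm

/-- For a two-prime subgroup outside the radical the normaliser is the preimage of the image's normaliser. -/
theorem normalizer_eq_comap [Finite G] (h : SubMax G) {R : Subgroup G} [R.Normal]
    (hR : Group.IsSolvable R) (hmax : ∀ N : Subgroup G, N.Normal → Group.IsSolvable N → N ≤ R)
    {H : Subgroup G} (hH : Small H) (hHR : ¬ H ≤ R) :
    normalizer (H : Set G) = (normalizer (H.map (QuotientGroup.mk' R) : Set (G ⧸ R))).comap (QuotientGroup.mk' R) := by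
  have hns : ¬ H.IsSubnormal := fun hs => hHR (le_of_subnormal hmax hs H le_rfl le_normalizer hH.solvable)
  have hc := h H hns hH
  rw [comap_normalizer_eq_of_surjective _ (QuotientGroup.mk'_surjective R),
    comap_map_eq, QuotientGroup.ker_mk']
  refine (hc.le_iff_eq ?_).1 ?_ |>.symm
  · intro htop
    have hn : (H ⊔ R).Normal := normalizer_eq_top_iff.1 htop
    exact hHR (le_sup_left.trans (hmax _ hn (Spor.Tri.sup_isSolvable_of_normal inferInstance hH.solvable hR)))
  · intro g hg
    rw [mem_normalizer_iff_map_conj_eq] at hg ⊢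
    rw [Subgroup.map_sup, hg, Subgroup.Normal.map_conj_eq]

end CfsgLib.FGThirteen
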