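import Cfsg.Agent.Lib.FGThirteen.Inv
import Cfsg.Agent.Lib.CIT.Main

/-!
# Two central involutions with 2-groups as centralisers do not occur
-/

set_option autoImplicit false

namespace CfsgLib.FGThirteen

open Subgroup
open scoped Pointwise

variable {X : Type*} [Group X] [Finite X]

theorem Ctx.centralizer_eq_of_central (c : Ctx X) (S : Sylow 2 X) {t : X} (ht : orderOf t = 2)
    (hcen : (S : Subgroup X) ≤ centralizer ({t} : Set X)) (ho : ¬ OddInv t) :
    centralizer ({t} : Set X) = (S : Subgroup X) :=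
  S.is_maximal' (isPGroup_centralizer ho) hcen

theorem Ctx.false_of_two_central (c : Ctx X) (S : Sylow 2 X) {z v : X} (hz : orderOf z = 2) (hv : orderOf v = 2)
    (hne : z ≠ v) (hzS : z ∈ S) (hvS : v ∈ S) (hzc : (S : Subgroup X) ≤ centralizer ({z} : Set X))
    (hvc : (S : Subgroup X) ≤ centralizer ({v} : Set X)) (hoz : ¬ OddInv z) (hov : ¬ OddInv v)
    (hozv : ¬ OddInv (z * v)) : False := by
  classical
  haveI : Fact (Nat.Prime 2) := ⟨Nat.prime_two⟩
  have hzv : Commute z v := (mem_centralizer_singleton_iff.1 (hzc hvS)).symm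
  have hzv2 := orderOf_invol_mul hz hv hzv hne
  have hzvc : (S : Subgroup X) ≤ centralizer ({z * v} : Set X) := fun s hs =>
    mem_centralizer_singleton_iff.2 ((Commute.mul_right (mem_centralizer_singleton_iff.1 (hzc hs))
      (mem_centralizer_singleton_iff.1 (hvc hs))).eq)
  have hCz := c.centralizer_eq_of_central S hz hzc hoz
  have hCv := c.centralizer_eq_of_central S hv hvc hov
  have hCzv := c.centralizer_eq_of_central S hzv2 hzvc hozv
  have hall : ∀ t : X, orderOf t = 2 → ¬ OddInv t := by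
    intro t ht hot
    obtain ⟨P, hP⟩ := (CIT.isPGroup_zpowers_invol ht).exists_le_sylow
    obtain ⟨g, hg⟩ := MulAction.exists_smul_eq X P S
    have hu : g * t * g⁻¹ ∈ S := by
      rw [← hg]
      show g * t * g⁻¹ ∈ MulAut.conj g • (P : Subgroup X)
      exact Subgroup.smul_mem_pointwise_smul t (MulAut.conj g) _ (hP (mem_zpowers t))
    set u := g * t * g⁻¹
    have huo : OddInv u := hot.conj g
    have hcu : ∀ {w : X}, (S : Subgroup X) ≤ centralizer ({w} : Set X) → Commute u w := fun h =>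
      mem_centralizer_singleton_iff.1 (h hu)
    have huz : u ≠ z := fun e => hoz (e ▸ huo)
    rcases c.maxN.invol_cases (orderOf_conj_two ht g) hz hv (hcu hzc) (hcu hvc) hzv huz huo with e | e | e
    · exact hov (e ▸ huo)
    · exact hne e.symm
    · refine hozv ?_
      rw [e, ← mul_assoc, (hcu hzc).symm.eq, mul_assoc, invol_sq hz, mul_one]
      exact huo
  have hcit : CIT.IsCIT X := CIT.isCIT_of_isPGroup fun t ht => isPGroup_centralizer (hall t ht)
  have hO : CIT.NoCore X := fun P hP hne' htop =>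
    hne' (c.maxN.normal_eq_bot (normalizer_eq_top_iff.1 htop) (Small.of_isPGroup Nat.prime_two hP))
  obtain ⟨g, hg, hgne⟩ := c.not_weakly_closed S hz hzS
  have hS1 : CIT.IsSyl ⊤ (centralizer ({g * z * g⁻¹} : Set X)) := by
    obtain ⟨P, hP⟩ := c.centralizer_eq_sylow (orderOf_conj_two hz g) (hall _ (orderOf_conj_two hz g))
    rw [← hP]; exact CIT.Sylow.isSylTop P
  obtain ⟨E, F, U, q, p⟩ := CIT.exists_pair hcit hO (CIT.Sylow.isSylTop S) hS1
    (fun e => invol_ne_one (orderOf_conj_two hz g) (by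
      rw [← mem_bot, ← e]; exact ⟨hg, mem_centralizer_singleton_iff.2 rfl⟩))
    (fun e => hgne (by
      have := c.maxN.mem_of_centralizer_conj hz (g := g) (by rw [← e, hCz])
      rw [mem_centralizer_singleton_iff.1 this, mul_inv_cancel_right]))
  obtain ⟨T, hUT⟩ := (p.sylE.2.1 : IsPGroup 2 U).exists_le_sylow
  obtain ⟨a, ha⟩ := MulAction.exists_smul_eq X S T
  have hcenT : ∀ w : X, centralizer ({w} : Set X) = (S : Subgroup X) → w ∈ S →
      a * w * a⁻¹ ∈ E ⊓ F ∧ centralizer ({a * w * a⁻¹} : Set X) = (T : Subgroup X) := by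
    intro w hw hwS
    have hT : centralizer ({a * w * a⁻¹} : Set X) = (T : Subgroup X) := by
      rw [← ha]
      ext x
      rw [centralizer_conj, hw, Sylow.coe_subgroup_smul, Subgroup.mem_pointwise_smul_iff_inv_smul_mem,
        ← map_inv, MulAut.smul_def, MulAut.conj_apply, inv_inv]
    have hUc : ∀ x ∈ U, x * (a * w * a⁻¹) = a * w * a⁻¹ * x := fun x hx =>
      mem_centralizer_singleton_iff.1 (hT ▸ hUT hx)
    refine ⟨?_, hT⟩
    rw [← p.fix_eq]
    refine CIT.mem_fixSub.2 ⟨p.offE.sp.rad.centralizer_le hcit (mem_centralizer_iff.2 fun e he => ?_), hUc⟩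
    exact hUc e (p.leE he)
  obtain ⟨hz', hCz'⟩ := hcenT z hCz hzS
  obtain ⟨hv', hCv'⟩ := hcenT v hCv hvS
  obtain ⟨hzv', hCzv'⟩ := hcenT (z * v) hCzv (mul_mem hzS hvS)
  haveI := Fintype.ofFinite X
  set z' := a * z * a⁻¹
  set v' := a * v * a⁻¹
  set w' := a * (z * v) * a⁻¹
  have hz'2 := orderOf_conj_two hz a
  have hv'2 := orderOf_conj_two hv a
  have hw'2 := orderOf_conj_two hzv2 a
  have hd1 : z' ≠ v' := fun e => hne (mul_left_cancel (mul_right_cancel e))
  have hd2 : z' ≠ w' := fun e => invol_ne_one hv (left_eq_mul.1 (mul_left_cancel (mul_right_cancel e)))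
  have hd3 : v' ≠ w' := fun e => invol_ne_one hz (right_eq_mul.1 (mul_left_cancel (mul_right_cancel e)))
  have hsub : ({1, z', v', w'} : Finset X) ⊆ Finset.univ.filter fun x => x ∈ E ⊓ F := by
    intro x hx
    simp only [Finset.mem_insert, Finset.mem_singleton] at hx
    refine Finset.mem_filter.2 ⟨Finset.mem_univ _, ?_⟩
    rcases hx with rfl | rfl | rfl | rfl
    exacts [one_mem _, hz', hv', hzv']
  have h4 : ({1, z', v', w'} : Finset X).card = 4 := by
    rw [Finset.card_insert_of_notMem (by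
        simp only [Finset.mem_insert, Finset.mem_singleton, not_or]
        exact ⟨(invol_ne_one hz'2).symm, (invol_ne_one hv'2).symm, (invol_ne_one hw'2).symm⟩),
      Finset.card_insert_of_notMem (by simp [hd1, hd2]), Finset.card_pair hd3]
  have hq : (Finset.univ.filter fun x => x ∈ E ⊓ F).card = q := by
    rw [← p.card_inf, ← Fintype.card_subtype, Nat.card_eq_fintype_card]
  have hq4 : q = 4 := by
    rcases p.two_or_four with e | e
    · have := Finset.card_le_card hsub; omega
    · exact e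
  subst hq4
  have heq := Finset.eq_of_subset_of_card_le hsub (by omega)
  obtain ⟨U', hU', hneU⟩ := p.offE.sp.rad.two_syl U p.sylE
  have hK : Nat.card (CIT.Off.stabPair (E := E) U U') = 48 := by
    rw [p.offE.card_stabPair p.sylE hU' hneU, p.offE.card]
  haveI : Fact (Nat.Prime 3) := ⟨Nat.prime_three⟩
  obtain ⟨⟨h, hhK⟩, hho⟩ := exists_prime_orderOf_dvd_card' (G := CIT.Off.stabPair (E := E) U U') 3
    (by rw [hK]; norm_num)
  rw [Subgroup.orderOf_mk] at hho
  obtain ⟨hhE, hhU, -⟩ := CIT.Off.mem_stabPair.1 hhK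
  have hhF := p.mem_normalizerF (CIT.cj_eq_self_iff.1 hhU) hhE
  have hmem : h * z' * h⁻¹ ∈ Finset.univ.filter fun x => x ∈ E ⊓ F :=
    Finset.mem_filter.2 ⟨Finset.mem_univ _, (mem_normalizer_iff.1 hhE z').1 hz'.1,
      (mem_normalizer_iff.1 hhF z').1 hz'.2⟩
  rw [← heq] at hmem
  have hC' : centralizer ({h * z' * h⁻¹} : Set X) = centralizer ({z'} : Set X) := by
    simp only [Finset.mem_insert, Finset.mem_singleton] at hmem
    rcases hmem with e | e | e | e
    · exact absurd (conj_eq_one_iff.1 e) (invol_ne_one hz'2)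
    all_goals rw [e]
    exacts [hCv'.trans hCz'.symm, hCzv'.trans hCz'.symm]
  have hhc := c.maxN.mem_of_centralizer_conj hz'2 hC'
  have := hcit z' h hz'2 (by rw [hho]; decide) (mem_centralizer_singleton_iff.1 hhc)
  rw [this, orderOf_one] at hho
  omega

end CfsgLib.FGThirteen
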