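import Cfsg.Agent.Lib.FGThirteen.OddSylow
import Cfsg.Agent.Lib.FGThirteen.Central
import Cfsg.Agent.Lib.Coprime.Solvable
import Cfsg.Agent.Lib.Invol.NormalFourExists

/-!
# The Sylow 2-subgroups are dihedral, semidihedral or four groups
-/

set_option autoImplicit false

namespace CfsgLib.FGThirteen

open Subgroup

variable {X : Type*} [Group X] [Finite X]

theorem Ctx.shape_of_noncentral (c : Ctx X) (S : Sylow 2 X) {z v : X} (hz : orderOf z = 2) (hzS : z ∈ S)
    (hzc : (S : Subgroup X) ≤ centralizer ({z} : Set X)) (hoz : ¬ OddInv z) (hv : orderOf v = 2) (hvS : v ∈ S)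
    (hvz : v ≠ z) (hconj : ∀ s ∈ (S : Subgroup X), s * v * s⁻¹ = v ∨ s * v * s⁻¹ = v * z)
    (hnc : ¬ (S : Subgroup X) ≤ centralizer ({v} : Set X)) : Shape (S : Subgroup X) := by
  classical
  haveI : Fact (Nat.Prime 2) := ⟨Nat.prime_two⟩
  have hCz := c.centralizer_eq_of_central S hz hzc hoz
  have hSco : IsCoatom (S : Subgroup X) := hCz ▸ c.maxN.centralizer_coatom hz
  set R := (S : Subgroup X) ⊓ centralizer ({v} : Set X) with hR
  obtain ⟨s₀, hs₀S, hs₀⟩ := SetLike.not_le_iff_exists.1 hnc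
  have hs₀v : s₀ * v * s₀⁻¹ = v * z := (hconj s₀ hs₀S).resolve_left fun e =>
    hs₀ (mem_centralizer_singleton_iff.2 (mul_inv_eq_iff_eq_mul.1 e))
  have hzv : Commute z v := (mem_centralizer_singleton_iff.1 (hzc hvS)).symm
  -- index two
  have hidx : ∀ s ∈ (S : Subgroup X), s ∉ R → s₀⁻¹ * s ∈ R := by
    intro s hs hsR
    have hsv : s * v * s⁻¹ = v * z := (hconj s hs).resolve_left fun e =>
      hsR ⟨hs, mem_centralizer_singleton_iff.2 (mul_inv_eq_iff_eq_mul.1 e)⟩
    refine ⟨(S : Subgroup X).mul_mem ((S : Subgroup X).inv_mem hs₀S) hs, mem_centralizer_singleton_iff.2 ?_⟩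
    calc s₀⁻¹ * s * v = s₀⁻¹ * (s * v * s⁻¹) * s := by group
      _ = s₀⁻¹ * (s₀ * v * s₀⁻¹) * s := by rw [hsv, hs₀v]
      _ = v * (s₀⁻¹ * s) := by group
  have hcardS : Nat.card (S : Subgroup X) ≤ 2 * Nat.card R := by
    let f : ↥(S : Subgroup X) → Bool × R := fun s =>
      if h : (s : X) ∈ R then (true, ⟨s, h⟩) else (false, ⟨s₀⁻¹ * s, hidx s s.2 h⟩)
    refine (Nat.card_le_card_of_injective f fun a b e => ?_).trans ?_
    · simp only [f] at e
      split_ifs at e <;> simp only [Prod.mk.injEq, Subtype.mk.injEq, Bool.false_eq_true, Bool.true_eq_false,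
        false_and, true_and] at e
      · exact Subtype.ext e
      · exact Subtype.ext (mul_left_cancel e)
    · rw [Nat.card_prod, Nat.card_eq_fintype_card, Fintype.card_bool]
  have hodd : OddInv v := by
    by_contra hov
    obtain ⟨P, hP⟩ := c.centralizer_eq_sylow hv hov
    have hnormal : ∀ Q : Subgroup X, IsPGroup 2 Q → R ≤ Q → Nat.card Q ≤ 2 * Nat.card R →
        Q ≤ normalizer (R : Set X) := by
      intro Q hQ hRQ hle
      by_cases hQR : Q ≤ R
      · exact hQR.trans le_normalizer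
      haveI := hQ.isNilpotent
      obtain ⟨x, hxQ, hxN, hxR⟩ := Isolated.exists_mem_normalizer_inf hRQ hQR
      have heq : R ⊔ zpowers x = Q := by
        refine eq_of_le_of_card_ge (sup_le hRQ (zpowers_le.2 hxQ)) (hle.trans ?_)
        have hd := Subgroup.card_mul_index ((R).subgroupOf (R ⊔ zpowers x))
        rw [Nat.card_congr (subgroupOfEquivOfLe (le_sup_left : R ≤ R ⊔ zpowers x)).toEquiv] at hd
        have h1 : R.relIndex (R ⊔ zpowers x) ≠ 1 := fun e =>
          hxR (relIndex_eq_one.1 e (mem_sup_right (mem_zpowers x)))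
        have h0 : R.relIndex (R ⊔ zpowers x) ≠ 0 := index_ne_zero_of_finite
        rw [← hd, mul_comm 2]
        exact Nat.mul_le_mul_left _ (Nat.succ_le_of_lt (Nat.lt_of_le_of_ne (Nat.pos_of_ne_zero h0) (Ne.symm h1)))
      rw [← heq]
      exact sup_le le_normalizer (zpowers_le.2 hxN)
    have h1 := hnormal S S.2 inf_le_left hcardS
    have hRP : R ≤ (P : Subgroup X) := hP ▸ inf_le_right
    have h2 := hnormal P P.2 hRP (le_of_eq_of_le (by rw [P.card_eq_multiplicity, ← S.card_eq_multiplicity]) hcardS)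
    rcases hSco.le_iff.1 h1 with e | e
    · have hn : R.Normal := normalizer_eq_top_iff.1 e
      have hbot := c.maxN.normal_eq_bot hn (Small.of_isPGroup Nat.prime_two (S.2.to_le inf_le_left))
      exact invol_ne_one hz (mem_bot.1 (hbot ▸ ⟨hzS, mem_centralizer_singleton_iff.2 hzv⟩ : z ∈ (⊥ : Subgroup X)))
    · rw [e] at h2
      have := P.is_maximal' S.2 h2
      exact hnc (this ▸ hP.le)
  have hvz2 : orderOf (v * z) = 2 := hs₀v ▸ orderOf_conj_two hv s₀
  have hvzne : v ≠ v * z := fun e => invol_ne_one hz (left_eq_mul.1 e)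
  have hoddvz : OddInv (v * z) := hs₀v ▸ hodd.conj s₀
  have hRv : R ≤ centralizer ({v} : Set X) := inf_le_right
  have hinv : ∀ u ∈ R, orderOf u = 2 → u = v ∨ u = z ∨ u = v * z := fun u hu huo =>
    c.maxN.invol_cases hv hz huo hzv.symm (mem_centralizer_singleton_iff.1 (hRv hu)).symm
      (mem_centralizer_singleton_iff.1 (hzc hu.1)).symm hvz hodd
  obtain ⟨g, hgS, hgne⟩ := c.not_weakly_closed S hz hzS
  set z1 := g * z * g⁻¹ with hz1def
  have hz1 : orderOf z1 = 2 := orderOf_conj_two hz g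
  have hoz1 : ¬ OddInv z1 := fun h => hoz (by simpa [hz1def, mul_assoc] using h.conj g⁻¹)
  have hz1R : z1 ∉ R := fun h => by
    rcases hinv z1 h hz1 with e | e | e
    · exact hoz1 (e ▸ hodd)
    · exact hgne e
    · exact hoz1 (e ▸ hoddvz)
  set K := (S : Subgroup X) ⊓ centralizer ({z1} : Set X) with hK
  refine shape_of_four S.2 hgS hz1 ?_
  have hKz : z ∈ K := ⟨hzS, mem_centralizer_singleton_iff.2 (mem_centralizer_singleton_iff.1 (hzc hgS)).symm⟩
  have hKz1 : z1 ∈ K := ⟨hgS, mem_centralizer_singleton_iff.2 rfl⟩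
  have hKinv : ∀ u ∈ K, u ∈ R → orderOf u = 2 → u = z := by
    intro u huK huR huo
    have hnv : ¬ Commute v z1 := fun h => hz1R ⟨hgS, mem_centralizer_singleton_iff.2 h.symm.eq⟩
    have hu1 : Commute u z1 := mem_centralizer_singleton_iff.1 huK.2
    have hz1c : Commute z z1 := (mem_centralizer_singleton_iff.1 (hzc hgS)).symm
    rcases hinv u huR huo with e | e | e
    · exact absurd (e ▸ hu1) hnv
    · exact e
    · exfalso
      refine hnv ?_
      have h2 := (e ▸ hu1).mul_left hz1c
      rwa [mul_assoc, invol_sq hz, mul_one] at h2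
  have hKR : ∀ u ∈ K, u ∉ R → z1 * u ∈ R ∧ z1 * u ∈ K := by
    intro u hu huR
    have h1 := hidx u hu.1 huR
    have h2 := hidx z1 hgS hz1R
    refine ⟨?_, mul_mem hKz1 hu⟩
    have h3 := mul_mem (inv_mem h2) h1
    rw [show (s₀⁻¹ * z1)⁻¹ * (s₀⁻¹ * u) = z1⁻¹ * u by group, inv_eq_of_mul_eq_one_right (invol_sq hz1)] at h3
    exact h3
  have hsq : ∀ u ∈ K, u * u ∈ R := by
    intro u hu
    by_cases huR : u ∈ R
    · exact mul_mem huR huR
    have hc1 : Commute u z1 := mem_centralizer_singleton_iff.1 hu.2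
    have := mul_mem (hKR u hu huR).1 (hKR u hu huR).1
    rwa [show z1 * u * (z1 * u) = u * u by
      rw [← hc1.eq, mul_assoc, ← mul_assoc z1 u z1, ← hc1.eq, mul_assoc u z1, invol_sq hz1, mul_one]] at this
  have hexp : ∀ u ∈ K, u ∈ R → u * u = 1 := by
    intro u huK huR
    by_contra hne
    obtain ⟨n, hn⟩ := (IsPGroup.iff_orderOf.1 (S.2.to_le (inf_le_left : K ≤ (S : Subgroup X)))) ⟨u, huK⟩
    rw [Subgroup.orderOf_mk] at hn
    rcases n with - | - | n
    · exact hne (by rw [orderOf_eq_one_iff.1 hn, one_mul])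
    · exact hne (by rw [← pow_two, ← (by simpa using hn : orderOf u = 2), pow_orderOf_eq_one])
    set w := u ^ 2 ^ n with hw
    have hwK : w ∈ K := pow_mem huK _
    have hwR : w ∈ R := pow_mem huR _
    have hw2 : orderOf (w * w) = 2 := by
      rw [← pow_two, hw, ← pow_mul, ← pow_succ]
      refine orderOf_eq_prime (by rw [← pow_mul, ← pow_succ, ← hn, pow_orderOf_eq_one]) fun e => ?_
      have := Nat.le_of_dvd (pow_pos two_pos _) (hn ▸ orderOf_dvd_of_pow_eq_one e)
      exact absurd this (not_le.2 (Nat.pow_lt_pow_right (by omega) (by omega)))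
    have hwz := hKinv _ (mul_mem hwK hwK) (mul_mem hwR hwR) hw2
    obtain ⟨P, hP⟩ := c.centralizer_eq_sylow hz1 hoz1
    haveI := P.2.isNilpotent
    obtain ⟨t, htP, htN, htK⟩ := Isolated.exists_mem_normalizer_inf (T := K) (P := (P : Subgroup X))
      (hP ▸ inf_le_right) (fun hle => by
        refine hgne ?_
        have hSP : (P : Subgroup X) ≤ (S : Subgroup X) := hle.trans inf_le_left
        have e := P.is_maximal' S.2 hSP
        have := c.maxN.mem_of_centralizer_conj hz (g := g) (by rw [← hP, ← e, hCz])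
        rw [hz1def, mem_centralizer_singleton_iff.1 this, mul_inv_cancel_right])
    have hw' := (mem_normalizer_iff.1 htN w).1 hwK
    have h1 : t * z * t⁻¹ = z := by
      refine hKinv _ ((mem_normalizer_iff.1 htN z).1 hKz) ?_ (orderOf_conj_two hz t)
      rw [← hwz, show t * (w * w) * t⁻¹ = t * w * t⁻¹ * (t * w * t⁻¹) by group]
      exact hsq _ hw'
    refine htK ⟨hCz ▸ mem_centralizer_singleton_iff.2 (mul_inv_eq_iff_eq_mul.1 h1), hP ▸ htP⟩
  have hmem : ∀ u, u ∈ K ↔ u ∈ ({1, z, z1, z1 * z} : Finset X) := by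
    intro u
    simp only [Finset.mem_insert, Finset.mem_singleton]
    constructor
    · intro hu
      have h0 : ∀ w ∈ K, w ∈ R → w = 1 ∨ w = z := fun w hw hwR => (eq_or_ne w 1).imp id fun h1 =>
        hKinv w hw hwR (orderOf_eq_prime (by rw [pow_two, hexp w hw hwR]) h1)
      by_cases huR : u ∈ R
      · rcases h0 u hu huR with e | e <;> simp [e]
      · obtain ⟨h1, h2⟩ := hKR u hu huR
        have hu' : z1 * (z1 * u) = u := by rw [← mul_assoc, invol_sq hz1, one_mul]
        rcases h0 _ h2 h1 with e | e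
        · rw [e, mul_one] at hu'; simp [← hu']
        · rw [e] at hu'; simp [← hu']
    · rintro (rfl | rfl | rfl | rfl)
      exacts [one_mem K, hKz, hKz1, mul_mem hKz1 hKz]
  haveI := Fintype.ofFinite X
  rw [Nat.card_congr (Equiv.subtypeEquivRight hmem), Nat.card_eq_fintype_card, Fintype.card_coe,
    Finset.card_insert_of_notMem (by
      simp only [Finset.mem_insert, Finset.mem_singleton, not_or]
      refine ⟨(invol_ne_one hz).symm, (invol_ne_one hz1).symm, fun e => hgne ?_⟩
      rw [eq_inv_of_mul_eq_one_left e.symm, inv_eq_of_mul_eq_one_right (invol_sq hz)]),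
    Finset.card_insert_of_notMem (by
      simp only [Finset.mem_insert, Finset.mem_singleton, not_or]
      exact ⟨Ne.symm hgne, fun e => invol_ne_one hz1 (right_eq_mul.1 e)⟩),
    Finset.card_pair (fun e => invol_ne_one hz (left_eq_mul.1 e))]

/-- The Sylow 2-subgroups. -/
theorem Ctx.shape (c : Ctx X) (S : Sylow 2 X) : Shape (S : Subgroup X) := by
  classical
  haveI : Fact (Nat.Prime 2) := ⟨Nat.prime_two⟩
  by_cases hall : ∃ u, u ∈ S ∧ orderOf u = 2 ∧ (S : Subgroup X) ≤ centralizer ({u} : Set X) ∧ OddInv u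
  · obtain ⟨u, hu, hu2, huc, huo⟩ := hall
    exact c.shape_of_oddInv S hu2 hu huc huo
  push Not at hall
  obtain ⟨z₀, hz₀S, hz₀, hz₀c⟩ := CIT.exists_central_invol (T := S) (CIT.two_dvd_card_of_nsolv c.not_solvable)
  have hz₀c' : (S : Subgroup X) ≤ centralizer ({z₀} : Set X) := fun s hs =>
    mem_centralizer_singleton_iff.2 (hz₀c s hs)
  obtain ⟨g, hg, hgne⟩ := c.not_weakly_closed S hz₀ hz₀S
  have hP := S.2
  have hcentral : ∀ {u : X}, orderOf u = 2 → (S : Subgroup X) ≤ centralizer ({u} : Set X) → u ∈ S →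
      ∀ a : X, u = a * z₀ * a⁻¹ → u = z₀ := by
    intro u hu huc huS a e
    have h1 := c.centralizer_eq_of_central S hu huc (hall u huS hu huc)
    have h2 := c.centralizer_eq_of_central S hz₀ hz₀c' (hall z₀ hz₀S hz₀ hz₀c')
    have := c.maxN.mem_of_centralizer_conj hz₀ (g := a) (by rw [← e, h1, h2])
    rw [e, mem_centralizer_singleton_iff.1 this, mul_inv_cancel_right]
  by_cases hB : ∃ B : Subgroup (S : Subgroup X), B.Normal ∧ IsMulCommutative B ∧ ¬ IsCyclic B
  · obtain ⟨B, h1, h2, h3⟩ := hB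
    obtain ⟨U, hUn, hU4, hU2⟩ := CfsgLib.Invol.exists_normal_four_of_abelian hP h1 h2 h3
    haveI := hUn
    haveI := hP.isNilpotent
    have hUne : U ≠ ⊥ := fun e => by rw [e, Subgroup.card_bot] at hU4; omega
    obtain ⟨⟨zS, hzSm⟩, hzne⟩ := Subgroup.ne_bot_iff_exists_ne_one.1 (Coprime.nilpotent_inf_center_ne_bot U hUne)
    have hzne' : zS ≠ 1 := fun e => hzne (Subtype.ext e)
    haveI := Fintype.ofFinite (S : Subgroup X)
    obtain ⟨vS, hvU, hvne⟩ : ∃ v ∈ U, v ∉ ({1, zS} : Finset (S : Subgroup X)) := by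
      by_contra hno
      push Not at hno
      have h := Finset.card_le_card (s := Finset.univ.filter fun x => x ∈ U) (t := ({1, zS} : Finset _))
        fun x hx => hno x (Finset.mem_filter.1 hx).2
      rw [← Fintype.card_subtype, ← Nat.card_eq_fintype_card, Finset.card_pair hzne'.symm] at h
      have h' : Nat.card U ≤ 2 := h
      omega
    simp only [Finset.mem_insert, Finset.mem_singleton, not_or] at hvne
    have ho : ∀ x ∈ U, x ≠ 1 → orderOf (x : X) = 2 := fun x hx hx1 =>
      (Subgroup.orderOf_coe x).trans (orderOf_eq_prime (hU2 x hx) hx1)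
    have hz := ho zS hzSm.1 hzne'
    have hv := ho vS hvU hvne.1
    have hzc : (S : Subgroup X) ≤ centralizer ({(zS : X)} : Set X) := fun s hs =>
      mem_centralizer_singleton_iff.2 (congrArg Subtype.val (mem_center_iff.1 hzSm.2 ⟨s, hs⟩))
    have hcase : ∀ x ∈ U, x = 1 ∨ x = zS ∨ x = vS ∨ x = vS * zS := by
      have hd3 : vS * zS ≠ 1 := fun e => hvne.2 (by
        rw [eq_inv_of_mul_eq_one_left e, inv_eq_of_mul_eq_one_right (by rw [← pow_two]; exact hU2 zS hzSm.1)])
      have hsub : ({1, zS, vS, vS * zS} : Finset (S : Subgroup X)) ⊆ Finset.univ.filter fun x => x ∈ U := by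
        intro y hy
        simp only [Finset.mem_insert, Finset.mem_singleton] at hy
        refine Finset.mem_filter.2 ⟨Finset.mem_univ _, ?_⟩
        rcases hy with rfl | rfl | rfl | rfl
        exacts [one_mem U, hzSm.1, hvU, mul_mem hvU hzSm.1]
      have he := Finset.eq_of_subset_of_card_le hsub (by
        rw [← Fintype.card_subtype, ← Nat.card_eq_fintype_card,
          Finset.card_insert_of_notMem (by simp [Ne.symm hzne', Ne.symm hvne.1, hd3.symm]),
          Finset.card_insert_of_notMem (by simp [Ne.symm hvne.2, hvne.1]),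
          Finset.card_pair (fun e => hzne' (left_eq_mul.1 e))]
        exact hU4.le)
      intro x hx
      have : x ∈ ({1, zS, vS, vS * zS} : Finset (S : Subgroup X)) :=
        he ▸ Finset.mem_filter.2 ⟨Finset.mem_univ _, hx⟩
      simpa using this
    have hconj : ∀ s ∈ (S : Subgroup X), s * (vS : X) * s⁻¹ = vS ∨ s * (vS : X) * s⁻¹ = vS * zS := by
      intro s hs
      rcases hcase _ (hUn.conj_mem vS hvU ⟨s, hs⟩) with e | e | e | e
      · exact absurd (conj_eq_one_iff.1 e) hvne.1
      · refine absurd ?_ hvne.2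
        rw [mul_inv_eq_iff_eq_mul, ← mem_center_iff.1 hzSm.2 ⟨s, hs⟩] at e
        exact mul_left_cancel e
      · exact Or.inl (congrArg Subtype.val e)
      · exact Or.inr (congrArg Subtype.val e)
    have hvz : (vS : X) ≠ zS := fun e => hvne.2 (Subtype.ext e)
    by_cases hvc : (S : Subgroup X) ≤ centralizer ({(vS : X)} : Set X)
    · exfalso
      have hzv : Commute (zS : X) (vS : X) := (mem_centralizer_singleton_iff.1 (hzc vS.2)).symm
      refine c.false_of_two_central S hz hv (Ne.symm hvz) zS.2 vS.2 hzc hvc (hall _ zS.2 hz hzc)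
        (hall _ vS.2 hv hvc) (hall _ (mul_mem zS.2 vS.2) (orderOf_invol_mul hz hv hzv (Ne.symm hvz)) ?_)
      exact fun s hs => mem_centralizer_singleton_iff.2 ((Commute.mul_right
        (mem_centralizer_singleton_iff.1 (hzc hs)) (mem_centralizer_singleton_iff.1 (hvc hs))).eq)
    · exact c.shape_of_noncentral S hz zS.2 hzc (hall _ zS.2 hz hzc) hv vS.2 hvz hconj hvc
  push Not at hB
  set z1 : (S : Subgroup X) := ⟨g * z₀ * g⁻¹, hg⟩
  set z0 : (S : Subgroup X) := ⟨z₀, hz₀S⟩
  have h01 : z1 ≠ z0 := fun e => hgne (congrArg Subtype.val e)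
  rcases CfsgLib.Invol.cyclic_or_std hP hB with hc | ⟨-, k, r, e, a, b, hstd, F, -⟩
  · exfalso
    obtain ⟨q, hq⟩ := hc.exists_generator
    exact h01 (CfsgLib.Invol.invol_zpowers_unique ((Subgroup.orderOf_mk _ _).trans (orderOf_conj_two hz₀ g))
      ((Subgroup.orderOf_mk _ _).trans hz₀) (hq z1) (hq z0))
  · rcases hstd with ⟨hk, ⟨rfl, rfl | rfl⟩ | ⟨hk3, rfl, rfl⟩⟩
    · exact Or.inl ⟨_, F.dihedralEquiv⟩
    · exfalso
      have hx : orderOf z1 = 2 := (Subgroup.orderOf_mk _ _).trans (orderOf_conj_two hz₀ g)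
      have h2k : (2 : ℤ) * 2 ^ (k - 1) = 2 ^ k := CfsgLib.Invol.two_mul_pow_pred (by omega)
      have hz12 : z1 ^ 2 = 1 := orderOf_dvd_iff_pow_eq_one.1 (dvd_of_eq hx)
      have hxC : ∀ y, y * z1 = z1 * y := by
        obtain ⟨i, hi | hi⟩ := F.exists_eq z1
        · have hi2 : a ^ (2 * i) = 1 := by
            rw [mul_comm, zpow_mul, zpow_two, ← hi, ← pow_two, hz12]
          rw [F.zpow_eq_one_iff] at hi2
          push_cast at hi2
          have hinv : a ^ (-1 * i) = a ^ i := by
            rw [F.zpow_eq_iff, ZMod.intCast_eq_intCast_iff_dvd_sub]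
            push_cast
            rw [show i - -1 * i = 2 * i by ring]; exact hi2
          intro y
          rw [hi]
          obtain ⟨j, rfl | rfl⟩ := F.exists_eq y
          · rw [← zpow_add, ← zpow_add, add_comm]
          · rw [F.ref_mul_rot, CfsgLib.Invol.CyclicFrame.rot_mul_ref, add_comm, zpow_add, hinv, ← zpow_add]
        · exfalso
          have h1 : (a ^ i * b) ^ 2 = 1 := by rw [← hi, hz12]
          rw [F.ref_sq, F.zpow_eq_one_iff] at h1
          push_cast at h1
          norm_num at h1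
          rw [← h2k] at h1
          have h5 : (0 : ℤ) < 2 ^ (k - 1) := by positivity
          have := Int.le_of_dvd h5 h1
          omega
      exact hgne (hcentral (orderOf_conj_two hz₀ g)
        (fun s hs => mem_centralizer_singleton_iff.2 (congrArg Subtype.val (hxC ⟨s, hs⟩))) hg g rfl)
    · exact Or.inr (Or.inl (CfsgLib.Invol.isQuasiDihedral_of_frame hk3 F))

end CfsgLib.FGThirteen
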