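import Cfsg.Agent.Lib.FGThirteen.Two
import Cfsg.Agent.Lib.Invol.ZStar
import Cfsg.Agent.Lib.Invol.Lonely
import Cfsg.Agent.Lib.FT.NoMinSimple
import Cfsg.Agent.S3224

/-!
# Commuting involutions when one centraliser is not a 2-group
-/

set_option autoImplicit false

namespace CfsgLib.FGThirteen

open Subgroup

variable {X : Type*} [Group X] [Finite X]

/-- The involution commutes with an element of odd prime order. -/
def OddInv (t : X) : Prop := ∃ (r : ℕ) (y : X), r.Prime ∧ r ≠ 2 ∧ orderOf y = r ∧ Commute t y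

theorem isPGroup_centralizer {t : X} (h : ¬ OddInv t) : IsPGroup 2 (centralizer ({t} : Set X)) := by
  rw [IsPGroup.iff_orderOf]
  intro x
  refine ⟨(orderOf x).primeFactorsList.length,
    Nat.eq_prime_pow_of_unique_prime_dvd (orderOf_pos x).ne' fun {d} hd hdx => ?_⟩
  by_contra hd2
  rw [← Subgroup.orderOf_coe x] at hdx
  exact h ⟨d, (x : X) ^ (orderOf (x : X) / d), hd, hd2, orderOf_pow_orderOf_div (orderOf_pos (x : X)).ne' hdx,
    (Commute.pow_left (mem_centralizer_singleton_iff.1 x.2) _).symm⟩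

theorem OddInv.conj {t : X} (h : OddInv t) (g : X) : OddInv (g * t * g⁻¹) := by
  obtain ⟨r, y, hr, hr2, hy, hc⟩ := h
  exact ⟨r, MulAut.conj g y, hr, hr2, by rw [MulEquiv.orderOf_eq, hy],
    (show g * t * g⁻¹ = MulAut.conj g t by simp) ▸ hc.map (MulAut.conj g)⟩

theorem orderOf_conj_two {t : X} (ht : orderOf t = 2) (g : X) : orderOf (g * t * g⁻¹) = 2 := by
  rw [show g * t * g⁻¹ = MulAut.conj g t by simp, MulEquiv.orderOf_eq, ht]

theorem orderOf_invol_mul {a b : X} (ha : orderOf a = 2) (hb : orderOf b = 2) (hab : Commute a b) (hne : a ≠ b) :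
    orderOf (a * b) = 2 := by
  refine orderOf_eq_prime (by rw [pow_two, hab.symm.mul_mul_mul_comm, invol_sq ha, invol_sq hb, one_mul]) ?_
  intro e1
  exact hne (by rw [eq_inv_of_mul_eq_one_left e1, inv_eq_of_mul_eq_one_right (invol_sq hb)])

/-- A four group containing an involution with an odd element in its centraliser is the whole story. -/
theorem MaxN.invol_cases (h : MaxN X) {a b u : X} (ha : orderOf a = 2) (hb : orderOf b = 2) (hu : orderOf u = 2)
    (hab : Commute a b) (hau : Commute a u) (hbu : Commute b u) (hne : a ≠ b) (ho : OddInv a) :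
    u = a ∨ u = b ∨ u = a * b := by
  obtain ⟨r, y, hr, hr2, hy, hc⟩ := ho
  by_contra hcon
  push Not at hcon
  obtain ⟨hua, hub, huab⟩ := hcon
  have hN := h.centralizer_eq ha hr hr2 hy hc
  have hbn : b ∈ normalizer (zpowers y : Set X) := by
    rw [← hN]; exact mem_centralizer_singleton_iff.2 hab.symm
  have hun : u ∈ normalizer (zpowers y : Set X) := by
    rw [← hN]; exact mem_centralizer_singleton_iff.2 hau.symm
  rcases exists_centralizing hr hy (invol_sq hb) (invol_sq hu) hbn hun with c | c | c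
  · exact hne (h.invol_unique hr hr2 hy ha hb hc c)
  · exact hua (h.invol_unique hr hr2 hy hu ha c hc)
  · refine huab ?_
    rw [h.invol_unique hr hr2 hy ha (orderOf_invol_mul hb hu hbu (Ne.symm hub)) hc c,
      hbu.eq, mul_assoc, invol_sq hb, mul_one]

theorem exists_invol {H : Subgroup X} (hH : IsPGroup 2 H) (hne : H ≠ ⊥) : ∃ u ∈ H, orderOf u = 2 := by
  haveI : Fact (Nat.Prime 2) := ⟨Nat.prime_two⟩
  haveI : Nontrivial H := H.nontrivial_iff_ne_bot.2 hne
  obtain ⟨u, hu⟩ := exists_prime_orderOf_dvd_card' (G := H) 2 (by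
    obtain ⟨n, hn⟩ := IsPGroup.iff_card.1 hH
    have h1 : 1 < Nat.card H := Finite.one_lt_card
    rcases n with - | n
    · rw [hn, pow_zero] at h1; omega
    · rw [hn]; exact dvd_pow_self 2 n.succ_ne_zero)
  exact ⟨u, u.2, (Subgroup.orderOf_coe u).trans hu⟩

/-- Two elements of a 2-subgroup centralising two involutions, one with an odd element, commute. -/
theorem MaxN.commute_of_pair (h : MaxN X) {a b : X} (ha : orderOf a = 2) (hb : orderOf b = 2) (hne : a ≠ b)
    (hoa : OddInv a) (hob : OddInv b) {W : Subgroup X} (hW : IsPGroup 2 W)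
    (hWa : W ≤ centralizer ({a} : Set X)) (hWb : W ≤ centralizer ({b} : Set X)) {x w : X} (hx : x ∈ W)
    (hw : w ∈ W) : Commute x w := by
  obtain ⟨r, y, hr, hr2, hy, hc⟩ := hoa
  obtain ⟨r', y', hr', hr'2, hy', hc'⟩ := hob
  have key : ∀ {t v : X} {s : ℕ}, orderOf t = 2 → s.Prime → s ≠ 2 → orderOf v = s → Commute t v →
      W ≤ centralizer ({t} : Set X) → Commute ((x * w)⁻¹ * (w * x)) v := by
    intro t v s ht hs hs2 hv htv hWt
    have hN := h.centralizer_eq ht hs hs2 hv htv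
    have act : ∀ g ∈ W, ∃ k : ℤ, g * v * g⁻¹ = v ^ k := fun g hg => by
      obtain ⟨k, hk⟩ := mem_zpowers_iff.1 (mem_normalizer_zpowers.1 (hN ▸ hWt hg))
      exact ⟨k, hk.symm⟩
    obtain ⟨k, hk⟩ := act x hx
    obtain ⟨m, hm⟩ := act w hw
    have e1 : x * w * v * (x * w)⁻¹ = v ^ (k * m) := by
      rw [show x * w * v * (x * w)⁻¹ = x * (w * v * w⁻¹) * x⁻¹ by group, hm, conj_zpow_eq, hk, ← zpow_mul]
    have e2 : w * x * v * (w * x)⁻¹ = v ^ (k * m) := by
      rw [show w * x * v * (w * x)⁻¹ = w * (x * v * x⁻¹) * w⁻¹ by group, hk, conj_zpow_eq, hm, ← zpow_mul,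
        mul_comm]
    calc (x * w)⁻¹ * (w * x) * v
        = (x * w)⁻¹ * (w * x * v * (w * x)⁻¹) * (w * x) := by group
      _ = (x * w)⁻¹ * (x * w * v * (x * w)⁻¹) * (w * x) := by rw [e1, e2]
      _ = v * ((x * w)⁻¹ * (w * x)) := by group
  have hq : (x * w)⁻¹ * (w * x) = 1 := by
    by_contra hne1
    obtain ⟨u, hu, huo⟩ := exists_invol (hW.to_le (zpowers_le.2
      (mul_mem (inv_mem (mul_mem hx hw)) (mul_mem hw hx)))) (zpowers_eq_bot.not.2 hne1)
    obtain ⟨n, rfl⟩ := mem_zpowers_iff.1 hu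
    exact hne ((h.invol_unique hr hr2 hy ha huo hc ((key ha hr hr2 hy hc hWa).zpow_left n)).trans
      (h.invol_unique hr' hr'2 hy' hb huo hc' ((key hb hr' hr'2 hy' hc' hWb).zpow_left n)).symm)
  exact inv_mul_eq_one.1 hq

/-- Groups with trivial radical and maximal normalisers. -/
structure Ctx (X : Type*) [Group X] [Finite X] : Prop where
  maxN : MaxN X
  rad : ∀ N : Subgroup X, N.Normal → Group.IsSolvable N → N = ⊥
  nontriv : Nontrivial X

theorem Ctx.not_solvable (c : Ctx X) : ¬ Group.IsSolvable X := fun hs => by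
  haveI := c.nontriv
  haveI := hs
  exact (bot_ne_top : (⊥ : Subgroup X) ≠ ⊤) (c.rad ⊤ inferInstance inferInstance).symm

theorem Ctx.not_weakly_closed (c : Ctx X) (S : Sylow 2 X) {z : X} (hz : orderOf z = 2) (hzS : z ∈ S) :
    ∃ g : X, g * z * g⁻¹ ∈ S ∧ g * z * g⁻¹ ≠ z := by
  by_contra hno
  push Not at hno
  have hcore : Cfsg.pPrimeCore 2 X = ⊥ := by
    have hn : (Cfsg.pPrimeCore 2 X).Normal := by
      rw [CfsgLib.Coprime.pPrimeCore_eq_piCore Nat.prime_two]; infer_instance
    refine c.rad _ hn (CfsgLib.FT.isSolvable_of_odd _ ?_)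
    exact Nat.coprime_two_right.1 (CfsgLib.Coprime.pPrimeCore_coprime Nat.prime_two)
  have hc := CfsgLib.Invol.eq_of_zcentral_bot (CfsgLib.Invol.zstar_of_weakly_closed S hz hno) hcore
  exact invol_ne_one hz (c.maxN.eq_one_of_central (a := 1) hc Nat.prime_two (by rw [hz, pow_one]))

theorem Ctx.centralizer_eq_sylow (c : Ctx X) {t : X} (ht : orderOf t = 2) (ho : ¬ OddInv t) :
    ∃ S : Sylow 2 X, (S : Subgroup X) = centralizer ({t} : Set X) := by
  haveI : Fact (Nat.Prime 2) := ⟨Nat.prime_two⟩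
  obtain ⟨S, hS⟩ := (isPGroup_centralizer ho).exists_le_sylow
  refine ⟨S, ((c.maxN.centralizer_coatom ht).le_iff_eq ?_).1 hS⟩
  intro e
  refine c.not_solvable ?_
  have h2 : IsPGroup 2 X := (e ▸ S.2 : IsPGroup 2 (⊤ : Subgroup X)).of_equiv Subgroup.topEquiv
  haveI := h2.isNilpotent
  infer_instance

/-- Centralisers inside a Sylow subgroup. -/
theorem card_centralizer_inf {S : Subgroup X} {x : X} (hx : x ∈ S) :
    Nat.card (centralizer ({(⟨x, hx⟩ : S)} : Set S)) = Nat.card (S ⊓ centralizer ({x} : Set X) : Subgroup X) := by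
  refine Nat.card_congr
    { toFun := fun s => ⟨(s : S).1, (s : S).2, mem_centralizer_singleton_iff.2
        (congrArg Subtype.val (mem_centralizer_singleton_iff.1 s.2))⟩
      invFun := fun s => ⟨⟨s.1, s.2.1⟩, mem_centralizer_singleton_iff.2
        (Subtype.ext (mem_centralizer_singleton_iff.1 s.2.2))⟩
      left_inv := fun s => rfl
      right_inv := fun s => rfl }

/-- The possible Sylow 2-subgroups. -/
def Shape (S : Subgroup X) : Prop :=
  (∃ n : ℕ, Nonempty (S ≃* DihedralGroup n)) ∨ Cfsg.IsQuasiDihedral S ∨ Nat.card S = 4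

theorem shape_of_four {S : Subgroup X} (hS : IsPGroup 2 S) {x : X} (hx : x ∈ S) (ho : orderOf x = 2)
    (h4 : Nat.card (S ⊓ centralizer ({x} : Set X) : Subgroup X) = 4) : Shape S :=
  Cfsg.Agent.S3224.result hS ⟨x, hx⟩ (by rw [Subgroup.orderOf_mk, ho]) (by rw [card_centralizer_inf hx, h4])

end CfsgLib.FGThirteen
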