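import Cfsg.Agent.Lib.FGThirteen.Basic
import Cfsg.Agent.Lib.MaxNormalizers.Basic
import Cfsg.Agent.Lib.MaxNormalizers.Facts

/-!
# Lifting from `PSL(2, 13)` to the whole group

If the quotient by the soluble radical is `PSL(2, 13)`, the radical commutes with a perfect supplement and meets
it in its centre, and what is left is abelian of order prime to 2184.
-/

set_option autoImplicit false
set_option linter.style.haveILetI false

namespace CfsgLib.FGThirteen

open Subgroup CfsgLib.MaxNormalizers

universe u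

variable {G : Type u} [Group G] [Finite G] (f : G →* PT)

/-- An element of the kernel whose order is prime to `p` commutes with the `p`-elements outside. -/
theorem commute_outside (hf : Function.Surjective f) (h : Hyp G) {p : ℕ} [hp : Fact p.Prime] {x y : G} {i : ℕ}
    (hx : orderOf x = p ^ i) (hfx : f x ≠ 1) (hy : f y = 1) (hyp : (p ^ i).Coprime (orderOf y)) :
    y * x = x * y := by
  have hC : IsPGroup p (zpowers x) := IsPGroup.of_card (n := i) (by rw [Nat.card_zpowers, hx])
  have hN := ker_le_normalizer f hf not_solvable_PT h (H := zpowers x) (fun hle => hfx (hle (mem_zpowers x)))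
    (biprimary_of_isPGroup hC)
  have h1 := (mem_normalizer_iff.1 (hN (show y ∈ f.ker from hy)) x).1 (mem_zpowers x)
  obtain ⟨k, hk⟩ := h1
  simp only at hk
  have hmod : (p : ℤ) ∣ k - 1 := by
    have e : f x ^ k = f x := by rw [← map_zpow, hk, map_mul, map_mul, map_inv, hy, one_mul, inv_one, mul_one]
    have e1 : f x ^ (k - 1) = 1 := by rw [zpow_sub, e, zpow_one, mul_inv_cancel]
    have e2 := orderOf_dvd_iff_zpow_eq_one.2 e1
    obtain ⟨j, -, hj'⟩ := (Nat.dvd_prime_pow hp.out).1 (hx ▸ orderOf_map_dvd f x)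
    rw [hj'] at e2
    refine dvd_trans ?_ e2
    rcases Nat.eq_zero_or_pos j with rfl | hj0
    · exact absurd (orderOf_eq_one_iff.1 (hj'.trans (pow_zero p))) hfx
    · exact_mod_cast dvd_pow_self p hj0.ne'
  have hiter : ∀ n : ℕ, y ^ n * x * (y ^ n)⁻¹ = x ^ (k ^ n) := by
    intro n
    induction n with
    | zero => simp
    | succ n ih =>
      calc y ^ (n + 1) * x * (y ^ (n + 1))⁻¹ = y * (y ^ n * x * (y ^ n)⁻¹) * y⁻¹ := by rw [pow_succ']; group
        _ = (y * x * y⁻¹) ^ (k ^ n) := by
          rw [ih]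
          exact (map_zpow (MulAut.conj y).toMonoidHom x (k ^ n))
        _ = x ^ (k ^ (n + 1)) := by rw [← hk, ← zpow_mul, pow_succ']
  have hfix : y ^ (p ^ i) * x = x * y ^ (p ^ i) := by
    refine mul_inv_eq_iff_eq_mul.1 ((hiter _).trans ?_)
    have hd : ((p ^ (i + 1) : ℕ) : ℤ) ∣ k ^ p ^ i - 1 := by
      have := dvd_sub_pow_of_dvd_sub hmod i
      rw [one_pow] at this
      exact_mod_cast this
    have hd' : (orderOf x : ℤ) ∣ k ^ p ^ i - 1 := by
      rw [hx]
      refine dvd_trans ?_ hd
      exact_mod_cast pow_dvd_pow p (Nat.le_succ i)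
    obtain ⟨c, hc⟩ := hd'
    rw [show k ^ p ^ i = (orderOf x : ℤ) * c + 1 by omega, zpow_add, zpow_mul, zpow_natCast, pow_orderOf_eq_one,
      one_zpow, one_mul, zpow_one]
  obtain ⟨a, ha⟩ := exists_pow_eq_self_of_coprime (x := y) hyp
  rw [← ha]
  exact (Commute.pow_left hfix a).eq

/-- The lifting step. -/
theorem lift_hom (hf : Function.Surjective f) (hsol : Group.IsSolvable f.ker) (h : Hyp G) :
    ∃ K S : Subgroup G, K.Normal ∧ S.Normal ∧ K ⊓ S = ⊥ ∧ K ⊔ S = ⊤ ∧
      (Nonempty (K ≃* Matrix.ProjectiveSpecialLinearGroup (Fin 2) (ZMod 13)) ∨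
        Nonempty (K ≃* Matrix.SpecialLinearGroup (Fin 2) (ZMod 13))) ∧
      IsMulCommutative S ∧ (Nat.card K).Coprime (Nat.card S) := by
  classical
  haveI := hsol
  have hTne : ⁅(⊤ : Subgroup PT), (⊤ : Subgroup PT)⁆ = ⊤ := by
    refine ((Subgroup.commutator_normal ⊤ ⊤).eq_bot_or_eq_top).resolve_left fun e => not_solvable_PT ?_
    exact ⟨⟨1, by rw [derivedSeries_succ, derivedSeries_zero, e]⟩⟩
  obtain ⟨K, ⟨hKn, hKf⟩, hmin⟩ := Set.Finite.exists_minimal
    (Set.toFinite {K : Subgroup G | K.Normal ∧ K.map f = ⊤})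
    ⟨⊤, inferInstance, map_top_of_surjective f hf⟩
  haveI := hKn
  have hinf : ∀ C : Subgroup G, C.Normal → C.map f = ⊤ → K ≤ C := fun C hC hCf => by
    haveI := hC
    have h2 : (⁅K, C⁆ : Subgroup G).map f = ⊤ := by rw [Subgroup.map_commutator, hKf, hCf, hTne]
    exact (hmin ⟨inferInstance, h2⟩ (Subgroup.commutator_le_left K C)).trans (Subgroup.commutator_le_right K C)
  have hperf : ⁅K, K⁆ = K := le_antisymm (Subgroup.commutator_le_left K K)
    (hmin ⟨inferInstance, by rw [Subgroup.map_commutator, hKf, hTne]⟩ (Subgroup.commutator_le_left K K))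
  have hKR : K ⊔ f.ker = ⊤ := eq_top_iff.2 fun g _ => by
    obtain ⟨k, hk, hkg⟩ := hKf.ge (mem_top (f g))
    have : g = k * (k⁻¹ * g) := by group
    rw [this]
    exact mul_mem_sup hk (show f (k⁻¹ * g) = 1 by rw [map_mul, map_inv, hkg, inv_mul_cancel])
  -- the supplement centralises the kernel
  have hprim : ∀ (y : G) (r j : ℕ), r.Prime → f y = 1 → orderOf y = r ^ j → ∀ k ∈ K, k * y = y * k := by
    intro y r j hr hy hyo
    obtain ⟨p, hp, hpd, hpr⟩ : ∃ p : ℕ, p.Prime ∧ p ∣ 1092 ∧ p ≠ r := by
      rcases eq_or_ne r 13 with rfl | e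
      · exact ⟨7, by norm_num, by norm_num, by norm_num⟩
      · exact ⟨13, by norm_num, by norm_num, e.symm⟩
    haveI := Fact.mk hp
    obtain ⟨x, ⟨i, hx⟩, hfx⟩ := exists_pElement f hf (p := p) (card_PT ▸ hpd)
    let C := centralizer {w : G | f w = 1 ∧ orderOf w = r ^ j}
    have hCn : C.Normal := ⟨fun c hc g => mem_centralizer_iff.2 fun w ⟨hw1, hw2⟩ => by
      have hw' : g⁻¹ * w * g ∈ {w : G | f w = 1 ∧ orderOf w = r ^ j} := ⟨by simp [hw1], by
        rw [← hw2, show g⁻¹ * w * g = MulAut.conj g⁻¹ w by simp, MulEquiv.orderOf_eq]⟩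
      have := mem_centralizer_iff.1 hc _ hw'
      calc w * (g * c * g⁻¹) = g * ((g⁻¹ * w * g) * c) * g⁻¹ := by group
        _ = g * c * g⁻¹ * w := by rw [this]; group⟩
    have hxC : x ∈ C := mem_centralizer_iff.2 fun w ⟨hw1, hw2⟩ =>
      commute_outside f hf h hx hfx hw1 (hw2 ▸ ((Nat.coprime_primes hp hr).2 hpr).pow i j)
    have hCf : C.map f = ⊤ := ((Subgroup.Normal.map hCn f hf).eq_bot_or_eq_top).resolve_left fun e =>
      hfx ((Subgroup.eq_bot_iff_forall _).1 e _ (mem_map_of_mem f hxC))
    exact fun k hk => ((mem_centralizer_iff.1 (hinf C hCn hCf hk)) y ⟨hy, hyo⟩).symm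
  have hcomm : ∀ k ∈ K, ∀ y : G, f y = 1 → k * y = y * k := by
    intro k hk y hy
    have htop : (centralizer ({k} : Set G)).subgroupOf f.ker = ⊤ :=
      eq_top_of_primary _ fun w r j hr hw =>
        mem_centralizer_singleton_iff.2 (hprim w r j hr w.2 ((Subgroup.orderOf_coe w).trans hw) k hk).symm
    exact ((mem_centralizer_singleton_iff.1 (htop.ge (mem_top (⟨y, hy⟩ : f.ker)))).symm)
  -- the isomorphism type
  let τ : K →* PT := f.comp K.subtype
  have hτ : Function.Surjective τ := fun t => by
    obtain ⟨k, hk, rfl⟩ := hKf.ge (mem_top t)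
    exact ⟨⟨k, hk⟩, rfl⟩
  have hτc : τ.ker ≤ center K := fun z hz => mem_center_iff.2 fun k => Subtype.ext (hcomm k k.2 z hz)
  have hKperf : _root_.commutator K = ⊤ := by
    apply map_injective K.subtype_injective
    rw [commutator_def, Subgroup.map_commutator, ← MonoidHom.range_eq_map, range_subtype, hperf]
  have hcases := cover_cases τ hτ hτc hKperf
  obtain ⟨π, hπ, hK2184, hKlow⟩ : ∃ π : ST →* K, Function.Surjective π ∧ Nat.card K ∣ 2184 ∧ 1092 ∣ Nat.card K := by
    rcases hcases with ⟨⟨e⟩⟩ | ⟨⟨e⟩⟩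
    · exact ⟨e.symm.toMonoidHom.comp (QuotientGroup.mk' _), e.symm.surjective.comp (QuotientGroup.mk'_surjective _),
        by rw [Nat.card_congr e.toEquiv, card_PT]; norm_num, by rw [Nat.card_congr e.toEquiv, card_PT]⟩
    · exact ⟨e.symm.toMonoidHom, e.symm.surjective, by rw [Nat.card_congr e.toEquiv, card_ST],
        by rw [Nat.card_congr e.toEquiv, card_ST]; norm_num⟩
  have hZtwo : ∀ z ∈ K, f z = 1 → orderOf z ∣ 2 := by
    intro z hz hfz
    have hcard : Nat.card τ.ker ∣ 2 := by
      have e := Subgroup.index_mul_card τ.ker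
      rw [Subgroup.index_ker, MonoidHom.range_eq_top.2 hτ, card_top, card_PT] at e
      exact Nat.dvd_of_mul_dvd_mul_left (show 0 < 1092 by norm_num) (e ▸ hK2184)
    exact dvd_trans (by rw [← Subgroup.orderOf_mk z hz]; exact Subgroup.orderOf_dvd_natCard τ.ker hfz) hcard
  have hkerπ : ∀ a : ST, f (π a : G) = 1 → a ∈ center ST := by
    intro a ha
    rcases Classical.sl_normal_cases (n := 2) (F := ZMod 13) le_rfl (by simp [ZMod.card]) (τ.comp π).ker with h' | h'
    · exact h' ha
    · exfalso
      have : ∀ t : PT, t = 1 := fun t => by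
        obtain ⟨c, rfl⟩ := (hτ.comp hπ) t
        exact h'.ge (mem_top c)
      exact not_solvable_PT (IsSimpleGroup.comm_iff_isSolvable.1 fun a b => by rw [this a, this b])
  -- normalisers of lifts
  have hnorm : ∀ (H : Subgroup G) [Group.IsSolvable H], ¬ H ≤ f.ker → Biprimary H → ∀ g : G,
      (∀ x ∈ H, f (g * x * g⁻¹) ∈ H.map f) → g ∈ normalizer (H : Set G) := by
    intro H _ hH hb g hg
    rw [normalizer_eq f hf not_solvable_PT h hH hb, mem_comap, mem_normalizer_iff_map_conj_eq]
    refine eq_of_le_of_card_ge (H := (H.map f).map (MulAut.conj (f g)).toMonoidHom) ?_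
      (card_map_of_injective (MulAut.conj (f g)).injective).ge
    rintro _ ⟨_, ⟨x, hx, rfl⟩, rfl⟩
    simpa using hg x hx
  -- no element of odd prime order dividing 1092 in the kernel
  have hodd : ∀ p : ℕ, p.Prime → (p = 3 ∨ p = 7 ∨ p = 13) → ∀ y : G, f y = 1 → orderOf y = p → False := by
    intro p hp hp3 y hy hyo
    haveI := Fact.mk hp
    obtain ⟨x, hx⟩ := exists_prime_orderOf_dvd_card' (G := K) p
      (dvd_trans (by rcases hp3 with rfl | rfl | rfl <;> norm_num) hKlow)
    have hx' : orderOf (x : G) = p := by rw [Subgroup.orderOf_coe, hx]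
    have hfx : f x ≠ 1 := fun e => by
      have := Nat.le_of_dvd two_pos (hx' ▸ hZtwo x x.2 e)
      rcases hp3 with rfl | rfl | rfl <;> omega
    have hsylow : Nat.card (zpowers x) = p ^ (Nat.card K).factorization p := by
      rw [Nat.card_zpowers, hx]
      have h1 : (Nat.card K).factorization p ≤ 1 := by
        refine ((Nat.factorization_le_iff_dvd Nat.card_pos.ne' (by norm_num)).2 hK2184 p).trans ?_
        by_contra hc
        have := (hp.pow_dvd_iff_le_factorization (by norm_num : (2184 : ℕ) ≠ 0)).2 (Nat.not_le.1 hc : 2 ≤ _)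
        rcases hp3 with rfl | rfl | rfl <;> norm_num at this
      have h2 : 1 ≤ (Nat.card K).factorization p :=
        (hp.dvd_iff_one_le_factorization Nat.card_pos.ne').1 (hx ▸ orderOf_dvd_natCard x)
      rw [le_antisymm h1 h2, pow_one]
    let P := Sylow.ofCard (zpowers x) hsylow
    obtain ⟨g, hg, hgx⟩ : ∃ g ∈ normalizer ((zpowers x : Subgroup K) : Set K), g * x * g⁻¹ ≠ x := by
      by_contra hc
      push Not at hc
      have hle : normalizer ((P : Subgroup K) : Set K) ≤ centralizer ((P : Subgroup K) : Set K) := fun g hg =>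
        mem_centralizer_iff.2 fun z hz => by
          obtain ⟨m, rfl⟩ := (hz : z ∈ zpowers x)
          exact (Commute.zpow_right (mul_inv_eq_iff_eq_mul.1 (hc g hg) : Commute g x) m).eq.symm
      have hcompl := MonoidHom.ker_transferSylow_isComplement' P hle
      have htop : (MonoidHom.transferSylow P hle).ker = ⊤ := by
        refine top_le_iff.1 ?_
        rw [← hKperf]
        haveI : IsMulCommutative (P : Subgroup K) := isMulCommutative_iff.2 fun a b => by
          obtain ⟨m, hm⟩ := a.2
          obtain ⟨n, hn⟩ := b.2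
          exact Subtype.ext (by
            show (a : K) * b = b * a
            rw [← hm, ← hn]
            exact (Commute.zpow_zpow (Commute.refl x) m n).eq)
        exact commutator_le.2 fun a _ b _ => by
          rw [MonoidHom.mem_ker, map_commutatorElement, commutatorElement_eq_one_iff_mul_comm]
          exact isMulCommutative_iff.1 inferInstance _ _
      have e := hcompl.card_mul
      rw [htop, card_top] at e
      have h1 : Nat.card (P : Subgroup K) = 1 := mul_left_cancel₀ Nat.card_pos.ne' (e.trans (mul_one _).symm)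
      rw [show Nat.card (P : Subgroup K) = Nat.card (zpowers x) from rfl, Nat.card_zpowers, hx] at h1
      exact hp.ne_one h1
    have hxy : Commute (x : G) y := hcomm x x.2 y hy
    obtain ⟨m, hm⟩ := (mem_normalizer_iff.1 hg x).1 (mem_zpowers x)
    have hm' : (g : G) * x * (g : G)⁻¹ = (x : G) ^ m := (congrArg (fun q : K => (q : G)) hm).symm
    set H := zpowers ((x : G) * y)
    have hxyp : ((x : G) * y) ^ p = 1 := by
      rw [hxy.mul_pow, ← hx', pow_orderOf_eq_one, one_mul, hx', ← hyo, pow_orderOf_eq_one]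
    have hHfx : f ((x : G) * y) = f x := by rw [map_mul, hy, mul_one]
    have hHp : IsPGroup p H := fun w => ⟨1, by
      obtain ⟨_, n, rfl⟩ := w
      refine Subtype.ext ?_
      show (((x : G) * y) ^ n) ^ (p ^ 1) = 1
      rw [pow_one, ← zpow_natCast, ← zpow_mul, mul_comm, zpow_mul, zpow_natCast, hxyp, one_zpow]⟩
    have hgN := hnorm H (fun hle => hfx (hHfx ▸ hle (mem_zpowers _))) (biprimary_of_isPGroup hHp) g (by
      rintro _ ⟨n, rfl⟩
      refine ⟨((x : G) * y) ^ (m * n), ⟨_, rfl⟩, ?_⟩
      simp only [map_mul, map_inv, map_zpow, hHfx]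
      rw [zpow_mul, ← map_zpow, ← hm', map_mul, map_mul, map_inv, ← conj_zpow])
    obtain ⟨n, hn⟩ := (mem_normalizer_iff.1 hgN _).1 (mem_zpowers ((x : G) * y))
    have hgy : (g : G) * y * (g : G)⁻¹ = y := by rw [hcomm g g.2 y hy, mul_inv_cancel_right]
    have hconj : (g : G) * ((x : G) * y) * (g : G)⁻¹ = (x : G) ^ m * y := by
      rw [show (g : G) * ((x : G) * y) * (g : G)⁻¹ = ((g : G) * x * (g : G)⁻¹) * ((g : G) * y * (g : G)⁻¹) by group,
        hm', hgy]
    replace hn : (x : G) ^ n * y ^ n = (x : G) ^ m * y := by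
      rw [← hxy.mul_zpow, ← hconj]; exact hn
    have hfn : (f x) ^ n = (f x) ^ m := by
      have := congrArg f hn
      rwa [map_mul, map_mul, map_zpow, map_zpow, map_zpow, hy, one_zpow, mul_one, mul_one] at this
    have hoz : orderOf (f x) = p :=
      ((Nat.dvd_prime hp).1 (hx' ▸ orderOf_map_dvd f (x : G))).resolve_left (fun e => hfx (orderOf_eq_one_iff.1 e))
    have hnm : (p : ℤ) ∣ n - m := by
      rw [← hoz, orderOf_dvd_iff_zpow_eq_one, zpow_sub, hfn, mul_inv_cancel]
    have hxnm : (x : G) ^ n = (x : G) ^ m := by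
      rw [← sub_add_cancel n m, zpow_add, orderOf_dvd_iff_zpow_eq_one.1 (hx'.symm ▸ hnm), one_mul]
    have hm1 : ¬ (p : ℤ) ∣ m - 1 := fun hd => hgx (Subtype.ext (by
      show (g : G) * x * (g : G)⁻¹ = x
      rw [hm', ← sub_add_cancel m 1, zpow_add, orderOf_dvd_iff_zpow_eq_one.1 (hx'.symm ▸ hd), one_mul, zpow_one]))
    rw [hxnm] at hn
    have hy1 : y ^ n = y := mul_left_cancel hn
    have h2 : (p : ℤ) ∣ n - 1 := by
      rw [← hyo, orderOf_dvd_iff_zpow_eq_one, zpow_sub, hy1, zpow_one, mul_inv_cancel]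
    exact hm1 (by have := dvd_sub h2 hnm; simpa using this)
  -- the two-elements of the kernel lie in the supplement
  have htwo : ∀ (y : G) (j : ℕ), f y = 1 → orderOf y = 2 ^ j → y ∈ K := by
    obtain ⟨a, b, g, hab2, haba, hga, hgb, ha, hb, hab, hab', haz, ha1⟩ := quat_exists
    set A : G := (π a : G)
    set B : G := (π b : G)
    set Γ : G := (π g : G)
    have hAK : A ∈ K := (π a).2
    have hBK : B ∈ K := (π b).2
    have eAA : A * A = B * B := by simp only [A, B, ← Subgroup.coe_mul, ← map_mul, hab2]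
    have eABA : A * B * A⁻¹ = B⁻¹ := by simp only [A, B, ← Subgroup.coe_mul, ← Subgroup.coe_inv, ← map_mul, ← map_inv, haba]
    have eG1 : Γ * A * Γ⁻¹ = B := by simp only [A, B, Γ, ← Subgroup.coe_mul, ← Subgroup.coe_inv, ← map_mul, ← map_inv, hga]
    have eG2 : Γ * B * Γ⁻¹ = A * B := by simp only [A, B, Γ, ← Subgroup.coe_mul, ← Subgroup.coe_inv, ← map_mul, ← map_inv, hgb]
    have nker : ∀ c : ST, c ∉ center ST → f (π c : G) ≠ 1 := fun c hc e => hc (hkerπ c e)
    have hfAA : f (A * A) = 1 := by
      have h' : τ (π (a * a)) ∈ center PT := mem_center_iff.2 fun t => by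
        obtain ⟨c, rfl⟩ := (hτ.comp hπ) t
        show τ (π c) * τ (π (a * a)) = τ (π (a * a)) * τ (π c)
        rw [← map_mul, ← map_mul, ← map_mul, ← map_mul, mem_center_iff.1 haz c]
      rw [center_PT, mem_bot] at h'
      simpa [τ, A] using h'
    -- involutions
    have hinv : ∀ y : G, f y = 1 → y * y = 1 → y ∈ K := by
      intro y hy hy2
      by_contra hyK
      have cA : A * y = y * A := hcomm A hAK y hy
      have cB : B * y = y * B := hcomm B hBK y hy
      set D := zpowers B
      have hAD : ∀ w ∈ D, (A * y) * w * (A * y)⁻¹ ∈ D := by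
        rintro _ ⟨n, rfl⟩
        refine ⟨-n, ?_⟩
        show B ^ (-n) = A * y * B ^ n * (A * y)⁻¹
        rw [mul_assoc A y, (Commute.zpow_right (cB.symm : Commute y B) n).eq, ← mul_assoc A, mul_inv_rev,
          show A * B ^ n * y * (y⁻¹ * A⁻¹) = A * B ^ n * A⁻¹ by group, ← conj_zpow, eABA, inv_zpow, zpow_neg]
      have hsq : (A * y) * (A * y) ∈ D := by
        refine ⟨2, ?_⟩
        show B ^ (2 : ℤ) = A * y * (A * y)
        rw [zpow_two, ← eAA, mul_assoc A y, ← mul_assoc y A, ← cA, mul_assoc, hy2, mul_one]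
      let H : Subgroup G :=
        { carrier := {w | w ∈ D ∨ (A * y)⁻¹ * w ∈ D}
          one_mem' := Or.inl (one_mem D)
          mul_mem' := by
            have hAD' : ∀ w ∈ D, (A * y)⁻¹ * w * (A * y) ∈ D := fun w hw => by
              have h1 := mul_mem (mul_mem (inv_mem hsq) (hAD w hw)) hsq
              convert h1 using 1
              group
            rintro u v (hu | hu) (hv | hv)
            · exact Or.inl (mul_mem hu hv)
            · refine Or.inr ?_
              convert mul_mem (hAD' u hu) hv using 1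
              group
            · refine Or.inr ?_
              convert mul_mem hu hv using 1
              group
            · refine Or.inl ?_
              convert mul_mem (mul_mem (hAD _ hu) hsq) hv using 1
              group
          inv_mem' := by
            rintro u (hu | hu)
            · exact Or.inl (inv_mem hu)
            · refine Or.inr ?_
              convert mul_mem (inv_mem hsq) (hAD _ (inv_mem hu)) using 1
              group }
      have hAyH : A * y ∈ H := Or.inr (by rw [inv_mul_cancel]; exact one_mem D)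
      have hBH : B ∈ H := Or.inl (mem_zpowers B)
      have hHle : H ≤ closure {A * y, B} := by
        have h1 : D ≤ closure {A * y, B} := zpowers_le.2 (subset_closure (by simp))
        rintro w (hw | hw)
        · exact h1 hw
        · have := mul_mem (subset_closure (show A * y ∈ ({A * y, B} : Set G) by simp)) (h1 hw)
          rwa [mul_inv_cancel_left] at this
      have hA4 : A ^ 4 = 1 := by
        have hz2 : (A * A) ^ 2 = 1 := orderOf_dvd_iff_pow_eq_one.1 (hZtwo _ (mul_mem hAK hAK) hfAA)
        rw [← hz2]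
        simp only [pow_two, pow_succ, pow_zero, one_mul, mul_assoc]
      have hHp : IsPGroup 2 H := by
        have hD : IsPGroup 2 D := fun w => ⟨2, by
          obtain ⟨_, n, rfl⟩ := w
          refine Subtype.ext ?_
          show (B ^ n) ^ (2 ^ 2) = 1
          have hB4 : B ^ (4 : ℕ) = 1 := by
            calc B ^ (4 : ℕ) = (B * B) * (B * B) := by simp only [pow_succ, pow_zero, one_mul, mul_assoc]
              _ = A ^ 4 := by rw [← eAA]; simp only [pow_succ, pow_zero, one_mul, mul_assoc]
              _ = 1 := hA4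
          rw [← zpow_natCast, ← zpow_mul, mul_comm, zpow_mul, zpow_natCast, show 2 ^ 2 = 4 from rfl, hB4, one_zpow]⟩
        intro w
        rcases (w.2 : (w : G) ∈ D ∨ (A * y)⁻¹ * w ∈ D) with hw | hw
        · obtain ⟨k, hk⟩ := hD ⟨w, hw⟩
          exact ⟨k, Subtype.ext (congrArg Subtype.val hk :)⟩
        · have hw2 : (w : G) * w ∈ D := by
            convert mul_mem (mul_mem (hAD _ hw) hsq) hw using 1
            group
          obtain ⟨k, hk⟩ := hD ⟨(w : G) * w, hw2⟩
          refine ⟨k + 1, Subtype.ext ?_⟩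
          have := congrArg Subtype.val hk
          show (w : G) ^ (2 ^ (k + 1)) = 1
          rw [pow_succ', pow_mul, pow_two]
          exact this
      have hfy : f (A * y) = f A := by rw [map_mul, hy, mul_one]
      haveI : Group.IsSolvable H := by
        haveI : Fact (Nat.Prime 2) := ⟨Nat.prime_two⟩
        haveI := hHp.isNilpotent
        infer_instance
      haveI : Fact (Nat.Prime 2) := ⟨Nat.prime_two⟩
      have hgN := hnorm H (fun hle => nker a ha ((hfy.symm.trans (hle hAyH)) : f A = 1))
        (biprimary_of_isPGroup hHp) Γ (by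
          intro w hw
          have hle : closure {A * y, B} ≤ (H.map f).comap (f.comp (MulAut.conj Γ).toMonoidHom) := by
            rw [closure_le]
            rintro _ (rfl | rfl)
            · refine ⟨B, hBH, ?_⟩
              show f B = f (Γ * (A * y) * Γ⁻¹)
              rw [map_mul, map_mul, hfy, ← map_mul, ← map_mul, eG1]
            · refine ⟨(A * y) * B, mul_mem hAyH hBH, ?_⟩
              show f (A * y * B) = f (Γ * B * Γ⁻¹)
              rw [eG2, map_mul, hfy, ← map_mul]
          exact hle (hHle hw))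
      have hABH : A * B ∈ H := eG2 ▸ (mem_normalizer_iff.1 hgN B).1 hBH
      rcases hABH with hw | hw
      · -- `A` would be a power of `B`
        obtain ⟨n, hn⟩ := hw
        have hfA : f A = f B ^ (n - 1) := by
          rw [← map_zpow, zpow_sub, zpow_one, show B ^ n = A * B from hn, mul_inv_cancel_right]
        have hB2 : f B ^ (2 : ℤ) = 1 := by rw [zpow_two, ← map_mul, ← eAA, hfAA]
        rcases Int.even_or_odd (n - 1) with ⟨k, hk⟩ | ⟨k, hk⟩
        · refine nker a ha ?_
          show f A = 1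
          rw [hfA, hk, ← two_mul, zpow_mul, hB2, one_zpow]
        · refine nker (a * b⁻¹) hab' ?_
          rw [map_mul, map_inv, Subgroup.coe_mul, Subgroup.coe_inv, map_mul, map_inv]
          show f A * (f B)⁻¹ = 1
          rw [hfA, hk, zpow_add, zpow_mul, hB2, one_zpow, one_mul, zpow_one, mul_inv_cancel]
      · obtain ⟨n, hn⟩ := hw
        refine hyK ?_
        have e : y⁻¹ * B = B ^ n := by
          rw [show B ^ n = (A * y)⁻¹ * (A * B) from hn]
          group
        have h' : y⁻¹ = B ^ n * B⁻¹ := eq_mul_inv_of_mul_eq e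
        have := inv_mem (show B ^ n * B⁻¹ ∈ K from mul_mem (zpow_mem hBK n) (inv_mem hBK))
        rwa [← h', inv_inv] at this
    intro y j
    induction j generalizing y with
    | zero =>
      intro _ hy
      rw [pow_zero, orderOf_eq_one_iff] at hy
      rw [hy]
      exact one_mem K
    | succ j ih =>
      intro hy hyo
      by_contra hyK
      have hsqK : y * y ∈ K := ih (y * y) (by rw [map_mul, hy, one_mul]) (by
        rw [← pow_two, orderOf_pow' y two_ne_zero, hyo, Nat.gcd_eq_right (dvd_pow_self 2 j.succ_ne_zero), pow_succ,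
          Nat.mul_div_cancel _ two_pos])
      have hz := hZtwo _ hsqK (by rw [map_mul, hy, one_mul])
      rcases (Nat.dvd_prime Nat.prime_two).1 hz with e | e
      · exact hyK (hinv y hy (orderOf_eq_one_iff.1 e))
      -- now `y * y` is the central involution, equal to `A * A`
      have hAA : A * A = y * y := by
        have hA : A * A ≠ 1 := fun e1 => by
          have hAy : (A * y) * (A * y) = y * y := by
            rw [mul_assoc A y, ← mul_assoc y A, ← hcomm A hAK y hy, mul_assoc A y, ← mul_assoc A A, e1, one_mul]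
          have hk2 : Nat.card K = 2184 := by
            refine Nat.dvd_antisymm hK2184 ?_
            have h1 : 2 ∣ Nat.card τ.ker := by
              have : orderOf (⟨⟨y * y, hsqK⟩, show f (y * y) = 1 by rw [map_mul, hy, one_mul]⟩ : τ.ker) = 2 := by
                rw [← Subgroup.orderOf_coe, ← Subgroup.orderOf_coe]; exact e
              exact this.symm.dvd.trans (orderOf_dvd_natCard _)
            have e2 := Subgroup.index_mul_card τ.ker
            rw [Subgroup.index_ker, MonoidHom.range_eq_top.2 hτ, card_top, card_PT] at e2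
            rw [← e2, show (2184 : ℕ) = 1092 * 2 from rfl]
            exact Nat.mul_dvd_mul_left _ h1
          have hbij : Function.Bijective π := by
            rw [Nat.bijective_iff_surjective_and_card]
            exact ⟨hπ, by rw [card_ST, hk2]⟩
          exact ha1 (hbij.1 (Subtype.ext (by rw [map_mul, Subgroup.coe_mul, map_one, Subgroup.coe_one]; exact e1)))
        by_contra hne
        have h3 : (A * A) * (y * y) ≠ 1 := fun e3 => hne (by
          rw [eq_inv_of_mul_eq_one_left e3]
          exact inv_eq_of_mul_eq_one_left (by rw [← pow_two]; exact orderOf_dvd_iff_pow_eq_one.1 (e.dvd)))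
        have hcard : Nat.card τ.ker ≤ 2 := by
          have e2 := Subgroup.index_mul_card τ.ker
          rw [Subgroup.index_ker, MonoidHom.range_eq_top.2 hτ, card_top, card_PT] at e2
          have := Nat.le_of_dvd (by norm_num) hK2184
          omega
        have hy2 : y * y ≠ 1 := fun e4 => by rw [e4, orderOf_one] at e; norm_num at e
        haveI : Fintype τ.ker := Fintype.ofFinite _
        let v : Fin 3 → τ.ker := ![1, ⟨⟨A * A, mul_mem hAK hAK⟩, hfAA⟩, ⟨⟨y * y, hsqK⟩, show f (y * y) = 1 by rw [map_mul, hy, one_mul]⟩]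
        have hv : Function.Injective v := by
          intro i k hik
          have := congrArg (fun z : τ.ker => ((z : K) : G)) hik
          fin_cases i <;> fin_cases k <;>
            simp [v, hA, hy2, hne, Ne.symm hne, Ne.symm hA, Ne.symm hy2] at this ⊢
        have := Nat.card_le_card_of_injective v hv
        rw [Nat.card_eq_fintype_card (α := Fin 3), Fintype.card_fin] at this
        omega
      set D := zpowers (A * y)
      have hcy : Commute A y := hcomm A hAK y hy
      have hsq1 : (A * y) * (A * y) = 1 := by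
        rw [mul_assoc, ← mul_assoc y, ← hcy.eq, mul_assoc, ← mul_assoc, hAA, ← pow_two, ← e, pow_orderOf_eq_one]
      haveI : Fact (Nat.Prime 2) := ⟨Nat.prime_two⟩
      have hDp : IsPGroup 2 D := fun w => ⟨1, by
        obtain ⟨_, n, rfl⟩ := w
        refine Subtype.ext ?_
        show ((A * y) ^ n) ^ (2 ^ 1) = 1
        rw [pow_one, ← zpow_natCast, ← zpow_mul, mul_comm, zpow_mul, zpow_natCast, pow_two, hsq1, one_zpow]⟩
      have hfy : f (A * y) = f A := by rw [map_mul, hy, mul_one]
      have hfB : f B * f A * (f B)⁻¹ = f A := by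
        rw [← map_inv, ← map_mul, ← map_mul]
        have h' : B * A * B⁻¹ = A * (B * B) := by
          have : A⁻¹ * B * A = B⁻¹ := by
            have := congrArg (fun w => (A⁻¹ * w * A)⁻¹) eABA
            simpa [mul_assoc] using this.symm
          calc B * A * B⁻¹ = A * (A⁻¹ * B * A) * B⁻¹ := by group
            _ = A * (B * B)⁻¹ := by rw [this]; group
            _ = A * (B * B) := by
              rw [← eAA, inv_eq_of_mul_eq_one_left (by rw [← pow_two, hAA]; exact orderOf_dvd_iff_pow_eq_one.1 e.dvd)]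
        rw [h', map_mul, ← eAA, hfAA, mul_one]
      have hBN := hnorm D (fun hle => nker a ha ((hfy.symm.trans (hle (mem_zpowers _))) : f A = 1))
        (biprimary_of_isPGroup hDp) B (by
          rintro _ ⟨n, rfl⟩
          refine ⟨(A * y) ^ n, ⟨n, rfl⟩, ?_⟩
          simp only [map_mul, map_inv, map_zpow, hy, mul_one]
          rw [← conj_zpow, hfB])
      obtain ⟨n, hn⟩ := (mem_normalizer_iff.1 hBN _).1 (mem_zpowers (A * y))
      have hn' : (A * y) ^ n = B * A * B⁻¹ * y := by
        rw [show B * A * B⁻¹ * y = B * (A * y) * B⁻¹ by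
          rw [mul_assoc (B * A) B⁻¹ y, (hcomm B⁻¹ (inv_mem hBK) y hy)]; group]
        exact hn
      rcases Int.even_or_odd n with ⟨k, hk⟩ | ⟨k, hk⟩
      · rw [hk, ← two_mul, zpow_mul, zpow_two, hsq1, one_zpow] at hn'
        refine hyK ?_
        rw [← inv_eq_of_mul_eq_one_right hn'.symm]
        exact inv_mem (mul_mem (mul_mem hBK hAK) (inv_mem hBK))
      · rw [hk, zpow_add, zpow_mul, zpow_two, hsq1, one_zpow, one_mul, zpow_one] at hn'
        have e1 : B * A * B⁻¹ = A := (mul_right_cancel hn').symm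
        have e2 : A * B * A⁻¹ = B := by
          rw [mul_inv_eq_iff_eq_mul] at e1 ⊢
          exact e1.symm
        rw [eABA, inv_eq_iff_mul_eq_one] at e2
        have : A * A = 1 := by rw [eAA, e2]
        rw [hAA] at this
        rw [this, orderOf_one] at e
        norm_num at e
  -- other primes: cyclic subgroups are normalised by the kernel
  have hcyc : ∀ (y : G) (r j : ℕ), r.Prime → r ≠ 13 → f y = 1 → orderOf y = r ^ j →
      ∀ w : G, f w = 1 → w * y * w⁻¹ ∈ zpowers y := by
    intro y r j hr hr13 hy hyo w hw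
    obtain ⟨x, ⟨i, hx⟩, hfx⟩ := exists_pElement f hf (p := 13) (by rw [card_PT]; norm_num)
    have hc13 : (13 ^ i).Coprime (r ^ j) :=
      ((Nat.coprime_primes (by norm_num : Nat.Prime 13) hr).2 hr13.symm).pow i j
    have hcxy : Commute x y := (commute_outside f hf h hx hfx hy (hyo ▸ hc13)).symm
    have hxy : f (x * y) = f x := by rw [map_mul, hy, mul_one]
    have hbi : Biprimary (zpowers (x * y)) := biprimary_of_dvd (a := i) (b := j) (by norm_num : Nat.Prime 13) hr (by
      rw [Nat.card_zpowers, ← hx, ← hyo]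
      exact (hcxy.orderOf_mul_dvd_lcm).trans (Nat.lcm_dvd_mul _ _))
    obtain ⟨n, hn⟩ := (mem_normalizer_iff.1 (ker_le_normalizer f hf not_solvable_PT h (H := zpowers (x * y))
      (fun hle => hfx (hxy ▸ hle (mem_zpowers _))) hbi (show w ∈ f.ker from hw)) _).1 (mem_zpowers (x * y))
    -- take the power killing `x`
    have hpow : (x * y) ^ (13 ^ i) = y ^ (13 ^ i) := by rw [hcxy.mul_pow, ← hx, pow_orderOf_eq_one, one_mul]
    obtain ⟨c, hc⟩ := exists_pow_eq_self_of_coprime (x := y) (n := 13 ^ i) (hyo ▸ hc13)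
    refine ⟨n, ?_⟩
    show y ^ n = w * y * w⁻¹
    conv_lhs => rw [← hc, ← hpow]
    conv_rhs => rw [← hc, ← hpow]
    rw [show ∀ z : G, ((z ^ (13 ^ i)) ^ c) ^ n = ((z ^ n) ^ (13 ^ i)) ^ c from fun z => by
      simp only [← zpow_natCast, ← zpow_mul]; ring_nf]
    rw [show (x * y) ^ n = w * (x * y) * w⁻¹ from hn, conj_pow, conj_pow]
  -- odd primes dividing 2184 do not occur
  have hlow : ∀ (y : G) (r j : ℕ), r.Prime → r ∣ 2184 → f y = 1 → orderOf y = r ^ j → y ∈ K := by
    intro y r j hr hr' hy hyo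
    have h2184 : r = 2 ∨ r = 3 ∨ r = 7 ∨ r = 13 := by
      have e : (2184 : ℕ) = 2 ^ 3 * 3 * 7 * 13 := by norm_num
      rw [e] at hr'
      rcases hr.dvd_mul.1 hr' with h1 | h1
      · rcases hr.dvd_mul.1 h1 with h2 | h2
        · rcases hr.dvd_mul.1 h2 with h3 | h3
          · exact Or.inl ((Nat.prime_dvd_prime_iff_eq hr Nat.prime_two).1 (hr.dvd_of_dvd_pow h3))
          · exact Or.inr (Or.inl ((Nat.prime_dvd_prime_iff_eq hr Nat.prime_three).1 h3))
        · exact Or.inr (Or.inr (Or.inl ((Nat.prime_dvd_prime_iff_eq hr (by norm_num)).1 h2)))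
      · exact Or.inr (Or.inr (Or.inr ((Nat.prime_dvd_prime_iff_eq hr (by norm_num)).1 h1)))
    rcases h2184 with rfl | e
    · exact htwo y j hy hyo
    · rcases Nat.eq_zero_or_pos j with rfl | hj
      · rw [pow_zero, orderOf_eq_one_iff] at hyo
        exact hyo ▸ one_mem K
      exfalso
      refine hodd r hr e (y ^ r ^ (j - 1)) (by rw [map_pow, hy, one_pow]) ?_
      rw [orderOf_pow' y (pow_ne_zero _ hr.ne_zero), hyo, Nat.gcd_eq_right (pow_dvd_pow r (Nat.sub_le j 1)),
        Nat.pow_div (Nat.sub_le j 1) hr.pos, Nat.sub_sub_self hj, pow_one]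
  -- the kernel is commutative
  have hRcomm : ∀ y z : G, f y = 1 → f z = 1 → Commute y z := by
    have key : ∀ (y z : G) (r j r' j' : ℕ), r.Prime → r'.Prime → f y = 1 → f z = 1 → orderOf y = r ^ j →
        orderOf z = r' ^ j' → Commute y z := by
      intro y z r j r' j' hr hr' hy hz hyo hzo
      by_cases hr1 : r ∣ 2184
      · exact hcomm y (hlow y r j hr hr1 hy hyo) z hz
      by_cases hr2 : r' ∣ 2184
      · exact (hcomm z (hlow z r' j' hr' hr2 hz hzo) y hy).symm
      have n13 : ∀ s : ℕ, ¬ s ∣ 2184 → s ≠ 13 := fun s hs e => hs (by rw [e]; norm_num)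
      have n2 : ∀ s : ℕ, ¬ s ∣ 2184 → s ≠ 2 := fun s hs e => hs (by rw [e]; norm_num)
      have hy' := fun w hw => hcyc y r j hr (n13 r hr1) hy hyo w hw
      have hz' := fun w hw => hcyc z r' j' hr' (n13 r' hr2) hz hzo w hw
      by_cases hrr : r = r'
      · subst hrr
        haveI := Fact.mk hr
        let R := f.ker
        let Y : Subgroup R := zpowers ⟨y, hy⟩
        let W : Subgroup R := zpowers ⟨z, hz⟩
        haveI hWn : W.Normal := ⟨fun q hq g => by
          obtain ⟨n, rfl⟩ := hq
          obtain ⟨k, hk⟩ := hz' g g.2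
          refine ⟨k * n, Subtype.ext ?_⟩
          show z ^ (k * n) = (g : G) * z ^ n * (g : G)⁻¹
          rw [zpow_mul, show z ^ k = (g : G) * z * (g : G)⁻¹ from hk, conj_zpow]⟩
        have hP : IsPGroup r (Y ⊔ W : Subgroup R) := by
          refine IsPGroup.to_sup_of_normal_right ?_ ?_
          · exact IsPGroup.of_card (n := j) (by rw [Nat.card_zpowers, ← Subgroup.orderOf_coe]; exact hyo)
          · exact IsPGroup.of_card (n := j') (by rw [Nat.card_zpowers, ← Subgroup.orderOf_coe]; exact hzo)
        have hc : IsMulCommutative ↥(Y ⊔ W : Subgroup R) := by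
          refine comm_of_cyclic_normal ?_ fun q => ⟨fun s hs g => ?_⟩
          · obtain ⟨k, hk⟩ := IsPGroup.iff_card.1 hP
            rw [hk]
            exact (hr.odd_of_ne_two (n2 r hr1)).pow
          · obtain ⟨k, hk⟩ := hP q
            have ho : orderOf ((q : R) : G) ∣ r ^ k := by
              rw [Subgroup.orderOf_coe, Subgroup.orderOf_coe]
              exact orderOf_dvd_of_pow_eq_one hk
            obtain ⟨k', -, hk'⟩ := (Nat.dvd_prime_pow hr).1 ho
            obtain ⟨n, rfl⟩ := hs
            obtain ⟨c, hc⟩ := hcyc _ r k' hr (n13 r hr1) (q : R).2 hk' ((g : R) : G) (g : R).2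
            refine ⟨c * n, Subtype.ext (Subtype.ext ?_)⟩
            show ((q : R) : G) ^ (c * n) = ((g : R) : G) * ((q : R) : G) ^ n * ((g : R) : G)⁻¹
            rw [zpow_mul, show ((q : R) : G) ^ c = _ from hc, conj_zpow]
        exact congrArg (fun t : (Y ⊔ W : Subgroup R) => ((t : R) : G))
          (isMulCommutative_iff.1 hc ⟨⟨y, hy⟩, mem_sup_left (mem_zpowers _)⟩ ⟨⟨z, hz⟩, mem_sup_right (mem_zpowers _)⟩)
      · have h1 : y * z * y⁻¹ * z⁻¹ ∈ zpowers y ⊓ zpowers z := ⟨by
          show y * z * y⁻¹ * z⁻¹ ∈ zpowers y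
          rw [show y * z * y⁻¹ * z⁻¹ = y * (z * y * z⁻¹)⁻¹ by group]
          exact mul_mem (mem_zpowers y) ((zpowers y).inv_mem (hy' z hz)), mul_mem (hz' y hy) ((zpowers z).inv_mem (mem_zpowers z))⟩
        have hbot : zpowers y ⊓ zpowers z = ⊥ := Subgroup.inf_eq_bot_of_coprime (by
          rw [Nat.card_zpowers, Nat.card_zpowers, hyo, hzo]
          exact ((Nat.coprime_primes hr hr').2 hrr).pow j j')
        rw [hbot, mem_bot] at h1
        exact commutatorElement_eq_one_iff_commute.1 h1
    intro y z hy hz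
    have h1 : ∀ (w : G) (r j : ℕ), r.Prime → f w = 1 → orderOf w = r ^ j → Commute w z := by
      intro w r j hr hw hwo
      have htop : (centralizer ({w} : Set G)).subgroupOf f.ker = ⊤ := eq_top_of_primary _ fun v r' j' hr' hv =>
        mem_centralizer_singleton_iff.2 (key v w r' j' r j hr' hr v.2 hw ((Subgroup.orderOf_coe v).trans hv) hwo).eq
      exact (mem_centralizer_singleton_iff.1 (htop.ge (mem_top (⟨z, hz⟩ : f.ker)))).symm
    have htop : (centralizer ({z} : Set G)).subgroupOf f.ker = ⊤ := eq_top_of_primary _ fun v r j hr hv =>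
      mem_centralizer_singleton_iff.2 (h1 v r j hr v.2 ((Subgroup.orderOf_coe v).trans hv)).eq
    exact mem_centralizer_singleton_iff.1 (htop.ge (mem_top (⟨y, hy⟩ : f.ker)))
  let S : Subgroup G :=
    { carrier := {y | f y = 1 ∧ (orderOf y).Coprime 2184}
      one_mem' := ⟨map_one f, by rw [orderOf_one]; exact Nat.coprime_one_left _⟩
      mul_mem' := fun {y z} hy hz => ⟨by rw [map_mul, hy.1, hz.1, one_mul],
        Nat.Coprime.coprime_dvd_left ((hRcomm y z hy.1 hz.1).orderOf_mul_dvd_lcm.trans (Nat.lcm_dvd_mul _ _))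
          (hy.2.mul_left hz.2)⟩
      inv_mem' := fun {y} hy => ⟨by rw [map_inv, hy.1, inv_one], by rw [orderOf_inv]; exact hy.2⟩ }
  have hSn : S.Normal := ⟨fun y ⟨hy1, hy2⟩ g => ⟨by simp [hy1], by
    rwa [show g * y * g⁻¹ = MulAut.conj g y from rfl, MulEquiv.orderOf_eq]⟩⟩
  refine ⟨K, S, hKn, hSn, ?_, ?_, hcases, isMulCommutative_iff.2 fun a b => Subtype.ext (hRcomm a b a.2.1 b.2.1), ?_⟩
  · refine (Subgroup.eq_bot_iff_forall _).2 fun y ⟨hyK, hy1, hy2⟩ => orderOf_eq_one_iff.1 ?_
    exact Nat.eq_one_of_dvd_coprimes hy2 dvd_rfl ((hZtwo y hyK hy1).trans (by norm_num))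
  · refine top_le_iff.1 (hKR ▸ sup_le le_sup_left fun y hy => ?_)
    have htop : (K ⊔ S).subgroupOf f.ker = ⊤ := eq_top_of_primary _ fun v r j hr hv => by
      by_cases hr' : r ∣ 2184
      · exact mem_sup_left (hlow v r j hr hr' v.2 ((Subgroup.orderOf_coe v).trans hv))
      · refine mem_sup_right ⟨v.2, ?_⟩
        show (orderOf (v : G)).Coprime 2184
        rw [Subgroup.orderOf_coe, hv]
        exact Nat.Coprime.pow_left _ (hr.coprime_iff_not_dvd.2 hr')
    exact htop.ge (mem_top (⟨y, hy⟩ : f.ker))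
  · refine Nat.coprime_of_dvd fun r hr hrK hrS => ?_
    haveI := Fact.mk hr
    obtain ⟨v, hv⟩ := exists_prime_orderOf_dvd_card' r hrS
    have h' := v.2.2
    rw [Subgroup.orderOf_coe, hv] at h'
    exact (hr.coprime_iff_not_dvd.1 h') (hrK.trans hK2184)

/-- The lifting step, for the quotient by a soluble normal subgroup. -/
theorem lift {G : Type u} [Group G] [Finite G] (h : SubMax G) (R : Subgroup G) [R.Normal] (hR : Group.IsSolvable R)
    (e : (G ⧸ R) ≃* Matrix.ProjectiveSpecialLinearGroup (Fin 2) (ZMod 13)) :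
    ∃ K S : Subgroup G, K.Normal ∧ S.Normal ∧ K ⊓ S = ⊥ ∧ K ⊔ S = ⊤ ∧
      (Nonempty (K ≃* Matrix.ProjectiveSpecialLinearGroup (Fin 2) (ZMod 13)) ∨
        Nonempty (K ≃* Matrix.SpecialLinearGroup (Fin 2) (ZMod 13))) ∧
      IsMulCommutative S ∧ (Nat.card K).Coprime (Nat.card S) := by
  refine lift_hom (e.toMonoidHom.comp (QuotientGroup.mk' R)) (e.surjective.comp (QuotientGroup.mk'_surjective R)) ?_ h
  have hk : (e.toMonoidHom.comp (QuotientGroup.mk' R)).ker = R := by
    ext x
    show e (QuotientGroup.mk x) = 1 ↔ x ∈ R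
    rw [map_eq_one_iff _ e.injective, QuotientGroup.eq_one_iff]
  exact hk.symm ▸ hR

end CfsgLib.FGThirteen
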