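import Cfsg.Agent.Lib.FGThirteen.Quotient

/-!
# Centralisers of involutions and of odd elements
-/

set_option autoImplicit false

namespace CfsgLib.FGThirteen

open Subgroup

variable {X : Type*} [Group X]

theorem Small.of_isPGroup [Finite X] {p : ℕ} (hp : p.Prime) {H : Subgroup X} (h : IsPGroup p H) : Small H := by
  refine ⟨p, p, hp, hp, fun r hr hd => Or.inl ?_⟩
  haveI := Fact.mk hp
  obtain ⟨n, hn⟩ := IsPGroup.iff_card.1 h
  rw [hn] at hd
  exact (Nat.prime_dvd_prime_iff_eq hr hp).1 (hr.dvd_of_dvd_pow hd)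

theorem small_zpowers {x : X} {p q a b : ℕ} (hp : p.Prime) (hq : q.Prime) (h : orderOf x = p ^ a * q ^ b) :
    Small (zpowers x) := by
  refine ⟨p, q, hp, hq, fun r hr hd => ?_⟩
  rw [Nat.card_zpowers, h] at hd
  rcases hr.dvd_mul.1 hd with e | e
  · exact Or.inl ((Nat.prime_dvd_prime_iff_eq hr hp).1 (hr.dvd_of_dvd_pow e))
  · exact Or.inr ((Nat.prime_dvd_prime_iff_eq hr hq).1 (hr.dvd_of_dvd_pow e))

theorem small_zpowers_prime_pow {x : X} {p a : ℕ} (hp : p.Prime) (h : orderOf x = p ^ a) : Small (zpowers x) :=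
  small_zpowers (a := a) (b := 0) hp hp (by rw [h, pow_zero, mul_one])

theorem conj_zpow_eq (g x : X) (n : ℤ) : g * x ^ n * g⁻¹ = (g * x * g⁻¹) ^ n := (conj_zpow).symm

theorem mem_normalizer_zpowers [Finite X] {g x : X} :
    g ∈ normalizer (zpowers x : Set X) ↔ g * x * g⁻¹ ∈ zpowers x := by
  refine ⟨fun h => (mem_normalizer_iff.1 h x).1 (mem_zpowers x), fun h => ?_⟩
  rw [mem_normalizer_iff_map_conj_eq, MonoidHom.map_zpowers]
  have e1 : (↑(MulAut.conj g) : X →* X) x = g * x * g⁻¹ := by simp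
  rw [e1]
  refine eq_of_le_of_card_ge (zpowers_le.2 h) (le_of_eq ?_)
  rw [Nat.card_zpowers, Nat.card_zpowers, show g * x * g⁻¹ = MulAut.conj g x by simp,
    MulEquiv.orderOf_eq]

theorem normalizer_zpowers_le [Finite X] {x w : X} (h : w ∈ zpowers x) :
    normalizer (zpowers x : Set X) ≤ normalizer (zpowers w : Set X) := by
  intro g hg
  obtain ⟨m, hm⟩ := mem_zpowers_iff.1 ((mem_normalizer_zpowers.1 hg))
  obtain ⟨k, rfl⟩ := mem_zpowers_iff.1 h
  rw [mem_normalizer_zpowers]
  refine mem_zpowers_iff.2 ⟨m, ?_⟩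
  rw [conj_zpow_eq, ← hm, ← zpow_mul, ← zpow_mul, mul_comm]

theorem normalizer_zpowers_invol [Finite X] {t : X} (ht : orderOf t = 2) :
    normalizer (zpowers t : Set X) = centralizer ({t} : Set X) := by
  ext g
  rw [mem_normalizer_zpowers, mem_centralizer_singleton_iff]
  constructor
  · intro h
    obtain ⟨k, hk⟩ := mem_zpowers_iff.1 h
    rw [← zpow_mod_orderOf, ht] at hk
    rcases Int.emod_two_eq_zero_or_one k with e | e <;> rw [show ((2 : ℕ) : ℤ) = 2 by rfl, e] at hk
    · rw [zpow_zero] at hk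
      have : t = 1 := by
        calc t = g⁻¹ * (g * t * g⁻¹) * g := by group
          _ = 1 := by rw [← hk]; group
      rw [this, orderOf_one] at ht; omega
    · rw [zpow_one] at hk
      calc g * t = g * t * g⁻¹ * g := by group
        _ = t * g := by rw [← hk]
  · intro h
    rw [h, mul_inv_cancel_right]
    exact mem_zpowers t

variable [Finite X]

theorem MaxN.normalizer_eq (h : MaxN X) {A B : Subgroup X} (hA : A ≠ ⊥) (hA' : Small A) (hB : B ≠ ⊥)
    (hB' : Small B) (hle : normalizer (B : Set X) ≤ normalizer (A : Set X)) :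
    normalizer (B : Set X) = normalizer (A : Set X) :=
  (((h B hB hB').le_iff_eq (h A hA hA').1).1 hle).symm

theorem MaxN.eq_one_of_central (h : MaxN X) {x : X} (hx : x ∈ center X) {p a : ℕ} (hp : p.Prime)
    (ho : orderOf x = p ^ a) : x = 1 := by
  by_contra hne
  refine (h _ (zpowers_eq_bot.not.2 hne) (small_zpowers_prime_pow hp ho)).1 (top_le_iff.1 fun g _ => ?_)
  rw [mem_normalizer_zpowers, mem_center_iff.1 hx g, mul_inv_cancel_right]
  exact mem_zpowers x

/-- Commuting elements of coprime prime power orders have the same normaliser. -/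
theorem MaxN.normalizer_zpowers_eq (h : MaxN X) {x w : X} {p q a b : ℕ} (hp : p.Prime) (hq : q.Prime)
    (hpq : p ≠ q) (hx : orderOf x = p ^ a) (hw : orderOf w = q ^ b) (hx1 : x ≠ 1) (hw1 : w ≠ 1)
    (hc : Commute x w) : normalizer (zpowers x : Set X) = normalizer (zpowers w : Set X) := by
  have hcop : (orderOf x).Coprime (orderOf w) := by
    rw [hx, hw]
    exact Nat.Coprime.pow _ _ ((Nat.coprime_primes hp hq).2 hpq)
  have ho := hc.orderOf_mul_eq_mul_orderOf_of_coprime hcop
  have hne : x * w ≠ 1 := fun e => by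
    rw [e, orderOf_one] at ho
    exact hx1 (orderOf_eq_one_iff.1 (Nat.eq_one_of_mul_eq_one_right ho.symm))
  have hs : Small (zpowers (x * w)) := small_zpowers hp hq (a := a) (b := b) (by rw [ho, hx, hw])
  have hb : zpowers (x * w) ≠ ⊥ := zpowers_eq_bot.not.2 hne
  have hxm : x ∈ zpowers (x * w) := by
    obtain ⟨m, hm⟩ := exists_pow_eq_self_of_coprime hcop.symm
    refine mem_zpowers_iff.2 ⟨(orderOf w * m : ℕ), ?_⟩
    rw [zpow_natCast, pow_mul, hc.mul_pow, pow_orderOf_eq_one w, mul_one, hm]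
  have hwm : w ∈ zpowers (x * w) := by
    obtain ⟨m, hm⟩ := exists_pow_eq_self_of_coprime hcop
    refine mem_zpowers_iff.2 ⟨(orderOf x * m : ℕ), ?_⟩
    rw [zpow_natCast, pow_mul, hc.mul_pow, pow_orderOf_eq_one x, one_mul, hm]
  rw [← h.normalizer_eq (zpowers_eq_bot.not.2 hx1) (small_zpowers_prime_pow hp hx) hb hs
      (normalizer_zpowers_le hxm),
    h.normalizer_eq (zpowers_eq_bot.not.2 hw1) (small_zpowers_prime_pow hq hw) hb hs
      (normalizer_zpowers_le hwm)]

theorem MaxN.centralizer_eq (h : MaxN X) {t y : X} {r : ℕ} (ht : orderOf t = 2) (hr : r.Prime) (hr2 : r ≠ 2)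
    (hy : orderOf y = r) (hc : Commute t y) :
    centralizer ({t} : Set X) = normalizer (zpowers y : Set X) := by
  rw [← normalizer_zpowers_invol ht]
  exact h.normalizer_zpowers_eq (a := 1) (b := 1) Nat.prime_two hr hr2.symm (by rw [ht, pow_one]) (by rw [hy, pow_one])
    (fun e => by rw [e, orderOf_one] at ht; omega) (fun e => by rw [e, orderOf_one] at hy; exact hr.ne_one hy.symm) hc

theorem MaxN.centralizer_coatom (h : MaxN X) {t : X} (ht : orderOf t = 2) :
    IsCoatom (centralizer ({t} : Set X)) := by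
  rw [← normalizer_zpowers_invol ht]
  exact h _ (zpowers_eq_bot.not.2 (fun e => by rw [e, orderOf_one] at ht; omega))
    (small_zpowers_prime_pow (a := 1) Nat.prime_two (by rw [ht, pow_one]))

end CfsgLib.FGThirteen
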