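import Cfsg.Agent.Lib.FGThirteen.Inv
import Cfsg.Agent.Lib.CIT.TI
import Cfsg.Agent.Lib.Block.HomocyclicTwo

/-!
# A central involution with an odd element in its centraliser
-/

set_option autoImplicit false

namespace CfsgLib.FGThirteen

open Subgroup

variable {X : Type*} [Group X] [Finite X]

theorem mem_zpowers_of_orderOf_le {M : Type*} [Group M] [Finite M] [IsCyclic M] {a b : M}
    (h : orderOf a ∣ orderOf b) : a ∈ zpowers b := by
  classical
  haveI := Fintype.ofFinite M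
  by_contra hn
  have hsub : insert a (Finset.univ.filter fun x => x ∈ zpowers b) ⊆
      Finset.univ.filter fun x : M => x ^ orderOf b = 1 := by
    intro x hx
    simp only [Finset.mem_insert, Finset.mem_filter, Finset.mem_univ, true_and] at hx ⊢
    rcases hx with rfl | hx
    · exact orderOf_dvd_iff_pow_eq_one.1 h
    · exact orderOf_dvd_iff_pow_eq_one.1 (orderOf_dvd_of_mem_zpowers hx)
  have h1 := (Finset.card_le_card hsub).trans (IsCyclic.card_pow_eq_one_le (orderOf_pos b))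
  rw [Finset.card_insert_of_notMem (by simpa using hn), ← Fintype.card_subtype, ← Nat.card_eq_fintype_card] at h1
  have h2 : Nat.card {x // x ∈ zpowers b} = orderOf b := Nat.card_zpowers b
  omega

/-- A twist `x⁻¹ t x t⁻¹` of two elements of the normaliser of an odd cyclic subgroup is a square in the centraliser. -/
theorem MaxN.exists_sqrt (h : MaxN X) {z y r t : X} {p : ℕ} (hz : orderOf z = 2) (hp : p.Prime) (hp2 : p ≠ 2)
    (hy : orderOf y = p) (hc : Commute z y) {S : Subgroup X} (hS : IsPGroup 2 S)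
    (hSz : S ≤ centralizer ({z} : Set X)) (hr : r ∈ S) (ht : t ∈ S) :
    ∃ w ∈ S, Commute w y ∧ w * w = r⁻¹ * (t * r * t⁻¹) := by
  have hN := h.centralizer_eq hz hp hp2 hy hc
  have hgen : ∀ d ∈ S, Commute d y → ∀ g ∈ S, ∃ j : ℤ, g * d * g⁻¹ = d * (d ^ j * d ^ j) := by
    intro d hd hdy g hg
    by_cases hd1 : d = 1
    · exact ⟨0, by simp [hd1]⟩
    obtain ⟨k, hk⟩ := (IsPGroup.iff_orderOf.1 hS) ⟨d, hd⟩
    rw [Subgroup.orderOf_mk] at hk
    have hNd := h.normalizer_zpowers_eq (a := k) (b := 1) Nat.prime_two hp hp2.symm hk (by rw [hy, pow_one]) hd1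
      (fun e => by rw [e, orderOf_one] at hy; exact hp.ne_one hy.symm) hdy
    obtain ⟨m, hm⟩ := mem_zpowers_iff.1 (mem_normalizer_zpowers.1 (hNd.symm ▸ hN ▸ hSz hg :
      g ∈ normalizer (zpowers d : Set X)))
    rcases Int.even_or_odd' m with ⟨j, rfl | rfl⟩
    · exfalso
      rcases k with - | k
      · exact hd1 (orderOf_eq_one_iff.1 hk)
      have h1 : orderOf (d ^ (2 * j)) = 2 ^ (k + 1) := by
        rw [hm, show g * d * g⁻¹ = MulAut.conj g d by simp, MulEquiv.orderOf_eq, hk]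
      have h2 : (d ^ (2 * j)) ^ (2 ^ k) = 1 := by
        rw [← zpow_natCast (d ^ (2 * j)), ← zpow_mul, ← orderOf_dvd_iff_zpow_eq_one, hk]
        exact ⟨j, by push_cast [pow_succ]; ring⟩
      have h3 := Nat.le_of_dvd (pow_pos two_pos _) (h1 ▸ orderOf_dvd_of_pow_eq_one h2)
      exact absurd h3 (not_le.2 (Nat.pow_lt_pow_right (by omega) (by omega)))
    · exact ⟨j, by rw [← hm, ← zpow_add, zpow_add d, zpow_one, ← two_mul]; group⟩
  set N := normalizer (zpowers y : Set X) with hNdef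
  have hSN : S ≤ N := hSz.trans hN.le
  set φ := (zpowers y).normalizerMonoidHom with hφ
  haveI : IsCyclic (zpowers y) := inferInstance
  haveI : IsCyclic (MulAut (zpowers y)) := by
    haveI : IsCyclic (ZMod (Nat.card (zpowers y)))ˣ := by
      rw [Nat.card_zpowers, hy]
      exact ZMod.isCyclic_units_prime hp
    exact isCyclic_of_surjective (IsCyclic.mulAutMulEquiv (zpowers y)).symm.toMonoidHom (MulEquiv.surjective _)
  set rN : N := ⟨r, hSN hr⟩
  set tN : N := ⟨t, hSN ht⟩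
  have h2pow : ∀ g : N, (g : X) ∈ S → ∃ e, orderOf (φ g) = 2 ^ e := fun g hg => by
    obtain ⟨e, he⟩ := (IsPGroup.iff_orderOf.1 hS) ⟨(g : X), hg⟩
    rw [Subgroup.orderOf_mk, Subgroup.orderOf_coe] at he
    obtain ⟨e', -, he'⟩ := (Nat.dvd_prime_pow Nat.prime_two).1 (he ▸ orderOf_map_dvd φ g)
    exact ⟨e', he'⟩
  have hker : ∀ g : N, φ g = 1 → Commute (g : X) y := fun g hg => by
    have h1 : g ∈ φ.ker := hg
    rw [hφ, Subgroup.normalizerMonoidHom_ker] at h1
    exact ((mem_centralizer_iff.1 (mem_subgroupOf.1 h1)) y (mem_zpowers y)).symm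
  obtain ⟨er, her⟩ := h2pow rN hr
  obtain ⟨et, het⟩ := h2pow tN ht
  rcases le_total er et with hle | hle
  · obtain ⟨e, he⟩ := mem_zpowers_iff.1 (mem_zpowers_of_orderOf_le (a := φ rN) (b := φ tN)
      (by rw [her, het]; exact pow_dvd_pow 2 hle))
    have hd : (t ^ e)⁻¹ * r ∈ S := mul_mem (inv_mem (zpow_mem ht e)) hr
    have hdy : Commute ((t ^ e)⁻¹ * r) y := hker ((tN ^ e)⁻¹ * rN) (by
      rw [map_mul, map_inv, map_zpow, he, inv_mul_cancel])
    obtain ⟨j, hj⟩ := hgen _ hd hdy t ht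
    refine ⟨((t ^ e)⁻¹ * r) ^ j, zpow_mem hd j, hdy.zpow_left j, ?_⟩
    generalize hd' : (t ^ e)⁻¹ * r = d at hj
    rw [show r = t ^ e * d by rw [← hd']; group]
    calc d ^ j * d ^ j = d⁻¹ * (d * (d ^ j * d ^ j)) := by group
      _ = (t ^ e * d)⁻¹ * (t * (t ^ e * d) * t⁻¹) := by rw [← hj]; group
  · obtain ⟨e, he⟩ := mem_zpowers_iff.1 (mem_zpowers_of_orderOf_le (a := φ tN) (b := φ rN)
      (by rw [her, het]; exact pow_dvd_pow 2 hle))
    have hd : (r ^ e)⁻¹ * t ∈ S := mul_mem (inv_mem (zpow_mem hr e)) ht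
    have hdy : Commute ((r ^ e)⁻¹ * t) y := hker ((rN ^ e)⁻¹ * tN) (by
      rw [map_mul, map_inv, map_zpow, he, inv_mul_cancel])
    obtain ⟨j, hj⟩ := hgen _ hd hdy r⁻¹ (inv_mem hr)
    generalize hd' : (r ^ e)⁻¹ * t = d at hj hd hdy
    refine ⟨r ^ e * (d ^ j) * (r ^ e)⁻¹, mul_mem (mul_mem (zpow_mem hr e) (zpow_mem hd j)) (inv_mem (zpow_mem hr e)),
      ?_, ?_⟩
    · have hy' : (r ^ e)⁻¹ * y * r ^ e ∈ zpowers y := by
        have := (mem_normalizer_iff.1 (inv_mem (zpow_mem (hSN hr) e)) y).1 (mem_zpowers y)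
        simpa using this
      obtain ⟨m, hm⟩ := mem_zpowers_iff.1 hy'
      have h1 : Commute (d ^ j) ((r ^ e)⁻¹ * y * r ^ e) := hm ▸ (hdy.zpow_left j).zpow_right m
      show r ^ e * d ^ j * (r ^ e)⁻¹ * y = y * (r ^ e * d ^ j * (r ^ e)⁻¹)
      calc r ^ e * d ^ j * (r ^ e)⁻¹ * y = r ^ e * (d ^ j * ((r ^ e)⁻¹ * y * r ^ e)) * (r ^ e)⁻¹ := by group
        _ = r ^ e * (((r ^ e)⁻¹ * y * r ^ e) * d ^ j) * (r ^ e)⁻¹ := by rw [h1.eq]
        _ = y * (r ^ e * d ^ j * (r ^ e)⁻¹) := by group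
    · rw [show t = r ^ e * d by rw [← hd']; group]
      calc r ^ e * d ^ j * (r ^ e)⁻¹ * (r ^ e * d ^ j * (r ^ e)⁻¹)
          = r ^ e * ((d * (d ^ j * d ^ j)) * d⁻¹) * (r ^ e)⁻¹ := by group
        _ = r⁻¹ * (r ^ e * d * r * (r ^ e * d)⁻¹) := by rw [← hj]; group

/-- A 2-subgroup with a maximal 2-subgroup property and transitivity on its involutions is a four group. -/
theorem Ctx.shape_of_oddInv (c : Ctx X) (S : Sylow 2 X) {z : X} (hz : orderOf z = 2) (hzS : z ∈ S)
    (hcen : (S : Subgroup X) ≤ centralizer ({z} : Set X)) (hodd : OddInv z) : Shape (S : Subgroup X) := by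
  classical
  haveI : Fact (Nat.Prime 2) := ⟨Nat.prime_two⟩
  haveI := Fintype.ofFinite X
  obtain ⟨g₀, hg₀, hg₀'⟩ := c.not_weakly_closed S hz hzS
  obtain ⟨g, hg, hmax⟩ := Finset.exists_max_image
    (Finset.univ.filter fun g : X => g * z * g⁻¹ ∈ S ∧ g * z * g⁻¹ ≠ z)
    (fun g => Nat.card ((S : Subgroup X) ⊓ centralizer ({g * z * g⁻¹} : Set X) : Subgroup X))
    ⟨g₀, Finset.mem_filter.2 ⟨Finset.mem_univ _, hg₀, hg₀'⟩⟩
  obtain ⟨-, hgS, hgne⟩ := Finset.mem_filter.1 hg
  set z1 := g * z * g⁻¹ with hz1def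
  have hz1 : orderOf z1 = 2 := orderOf_conj_two hz g
  have hodd1 : OddInv z1 := hodd.conj g
  set R := (S : Subgroup X) ⊓ centralizer ({z1} : Set X) with hRdef
  have hR2 : IsPGroup 2 R := S.2.to_le inf_le_left
  have hzz1 : Commute z z1 := (mem_centralizer_singleton_iff.1 (hcen hgS)).symm
  have hRz : R ≤ centralizer ({z} : Set X) := inf_le_left.trans hcen
  have hRz1 : R ≤ centralizer ({z1} : Set X) := inf_le_right
  have hzR : z ∈ R := ⟨hzS, mem_centralizer_singleton_iff.2 hzz1⟩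
  have hz1R : z1 ∈ R := ⟨hgS, mem_centralizer_singleton_iff.2 rfl⟩
  have hab : ∀ a ∈ R, ∀ b ∈ R, Commute a b := fun a ha b hb =>
    c.maxN.commute_of_pair hz hz1 hgne.symm hodd hodd1 hR2 hRz hRz1 ha hb
  have hinv : ∀ u ∈ R, orderOf u = 2 → u = z ∨ u = z1 ∨ u = z * z1 := fun u hu huo =>
    c.maxN.invol_cases hz hz1 huo hzz1 (hab z hzR u hu) (hab z1 hz1R u hu) hgne.symm hodd
  have hsq : ∀ u ∈ R, u * u = 1 → u ∈ ({1, z, z1, z * z1} : Finset X) := fun u hu hu2 => by
    by_cases hu1 : u = 1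
    · simp [hu1]
    rcases hinv u hu (orderOf_eq_prime (by rw [pow_two, hu2]) hu1) with e | e | e <;> simp [e]
  have hz01 := invol_ne_one hz
  have hz11 := invol_ne_one hz1
  have hp1 : z * z1 ≠ 1 := fun e => hgne (by
    rw [eq_inv_of_mul_eq_one_left e, inv_eq_of_mul_eq_one_right (invol_sq hz1)])
  have hfour : ({1, z, z1, z * z1} : Finset X).card = 4 := by
    rw [Finset.card_insert_of_notMem (by simp [hz01.symm, hz11.symm, hp1.symm]),
      Finset.card_insert_of_notMem (by simp [hgne.symm, hz11]), Finset.card_pair (fun e => hz01 (right_eq_mul.1 e))]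
  have htor : Nat.card {x : R // x ^ 2 = 1} = 4 := by
    rw [← hfour, ← Fintype.card_coe, Nat.card_eq_fintype_card]
    refine Fintype.card_congr
      { toFun := fun x => ⟨x.1.1, hsq _ x.1.2 (by simpa [pow_two] using congrArg Subtype.val x.2)⟩
        invFun := fun x => ⟨⟨x.1, ?_⟩, Subtype.ext ?_⟩
        left_inv := fun x => rfl
        right_inv := fun x => rfl }
    · have := x.2
      simp only [Finset.mem_insert, Finset.mem_singleton] at this
      rcases this with e | e | e | e <;> rw [e]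
      exacts [one_mem R, hzR, hz1R, mul_mem hzR hz1R]
    · have := x.2
      simp only [Finset.mem_insert, Finset.mem_singleton] at this
      show x.1 ^ 2 = 1
      rcases this with e | e | e | e <;> rw [e, pow_two]
      exacts [one_mul 1, invol_sq hz, invol_sq hz1,
        by rw [hzz1.symm.mul_mul_mul_comm, invol_sq hz, invol_sq hz1, one_mul]]
  by_cases hexp : ∀ u ∈ R, u * u = 1
  · refine shape_of_four S.2 hgS hz1 ?_
    rw [← htor]
    exact (Nat.card_congr (Equiv.subtypeUnivEquiv fun x : R =>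
      (pow_two x).trans (Subtype.ext (hexp x.1 x.2)))).symm
  exfalso
  push Not at hexp
  obtain ⟨u0, hu0, hu02⟩ := hexp
  by_cases hSR : (S : Subgroup X) ≤ centralizer ({z1} : Set X)
  · -- abelian Sylow subgroup
    have hRS : R = (S : Subgroup X) := inf_eq_left.2 hSR
    rw [hRS] at hab htor hu0
    have hbig : 4 < Nat.card (S : Subgroup X) := by
      by_contra hle
      push Not at hle
      have hle2 : Nat.card {x : (S : Subgroup X) // x ^ 2 = 1} = Nat.card (S : Subgroup X) :=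
        le_antisymm (Nat.card_le_card_of_injective _ Subtype.val_injective) (htor ▸ hle)
      have hsur := ((Nat.bijective_iff_injective_and_card (Subtype.val : {x : (S : Subgroup X) // x ^ 2 = 1} → _)).2
        ⟨Subtype.val_injective, hle2⟩).2 ⟨u0, hu0⟩
      obtain ⟨⟨x, hx⟩, e⟩ := hsur
      subst e
      exact hu02 (by simpa [pow_two] using congrArg Subtype.val hx)
    have hn := CfsgLib.Block.HomocyclicTwo.normal_of_fourTorsion X S hab htor hbig
      (fun N hN ho => c.rad N hN (CfsgLib.FT.isSolvable_of_odd _ ho))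
    have hbot := c.maxN.normal_eq_bot hn.1 (Small.of_isPGroup Nat.prime_two S.2)
    exact hz01 ((mem_bot).1 (hbot ▸ hzS))
  -- maximality of R
  have hmaxR : ∀ Q : Subgroup X, IsPGroup 2 Q → R ≤ Q → Q ≤ centralizer ({z} : Set X) →
      Q ≤ centralizer ({z1} : Set X) → Q = R := by
    intro Q hQ hRQ hQz hQz1
    obtain ⟨P, hP⟩ := (hQ.comap_subtype (K := centralizer ({z} : Set X))).exists_le_sylow
    obtain ⟨k, hk⟩ := MulAction.exists_smul_eq (centralizer ({z} : Set X)) P (S.subtype hcen)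
    have hmove : ∀ q ∈ Q, (k : X) * q * (k : X)⁻¹ ∈ S := by
      intro q hq
      have h1 : MulAut.conj k • (⟨q, hQz hq⟩ : centralizer ({z} : Set X)) ∈ ((k • P : Sylow 2 _) : Subgroup _) := by
        rw [Sylow.coe_subgroup_smul]
        exact Subgroup.smul_mem_pointwise_smul (⟨q, hQz hq⟩ : centralizer ({z} : Set X)) (MulAut.conj k) _
          (hP (Subgroup.mem_subgroupOf.2 hq))
      rw [hk] at h1
      exact Subgroup.mem_subgroupOf.1 h1
    have hkz : (k : X) * z * (k : X)⁻¹ = z := by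
      rw [mem_centralizer_singleton_iff.1 k.2, mul_inv_cancel_right]
    have hcand : (k : X) * g ∈ Finset.univ.filter fun g : X => g * z * g⁻¹ ∈ S ∧ g * z * g⁻¹ ≠ z := by
      refine Finset.mem_filter.2 ⟨Finset.mem_univ _, ?_⟩
      rw [show (k : X) * g * z * ((k : X) * g)⁻¹ = (k : X) * z1 * (k : X)⁻¹ by rw [hz1def]; group]
      refine ⟨hmove z1 (hRQ hz1R), fun e => hgne ?_⟩
      exact (MulAut.conj (k : X)).injective (by simp only [MulAut.conj_apply]; rw [e, hkz])
    have hle := hmax _ hcand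
    symm
    refine eq_of_le_of_card_ge hRQ (le_trans ?_ hle)
    refine Nat.card_le_card_of_injective (fun q => ⟨(k : X) * q * (k : X)⁻¹, hmove q q.2, ?_⟩) fun a b e => ?_
    · simp only [SetLike.mem_coe, Subgroup.mem_toSubmonoid]
      rw [mem_centralizer_singleton_iff, show (k : X) * g * z * ((k : X) * g)⁻¹ = (k : X) * z1 * (k : X)⁻¹ by
        rw [hz1def]; group]
      have := mem_centralizer_singleton_iff.1 (hQz1 q.2)
      calc (k : X) * q * (k : X)⁻¹ * ((k : X) * z1 * (k : X)⁻¹) = (k : X) * (q * z1) * (k : X)⁻¹ := by group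
        _ = (k : X) * z1 * (k : X)⁻¹ * ((k : X) * q * (k : X)⁻¹) := by rw [this]; group
    · exact Subtype.ext (mul_left_cancel (mul_right_cancel (congrArg Subtype.val e)))
  -- t moves z1
  haveI := S.2.isNilpotent
  obtain ⟨t, htS, htN, htR⟩ := Isolated.exists_mem_normalizer_inf (inf_le_left : R ≤ (S : Subgroup X))
    (fun hle => hSR (hle.trans hRz1))
  have htz : t * z * t⁻¹ = z := by rw [mem_centralizer_singleton_iff.1 (hcen htS), mul_inv_cancel_right]
  have ht1 : t * z1 * t⁻¹ = z * z1 := by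
    rcases hinv _ ((mem_normalizer_iff.1 htN z1).1 hz1R) (orderOf_conj_two hz1 t) with e | e | e
    · exact absurd ((MulAut.conj t).injective (by simp only [MulAut.conj_apply]; rw [e, htz])) hgne
    · exact absurd ⟨htS, mem_centralizer_singleton_iff.2 (mul_inv_eq_iff_eq_mul.1 e)⟩ htR
    · exact e
  -- t' moves z
  obtain ⟨Q, hQ2, hQ1, hRQ, hQR⟩ : ∃ Q : Subgroup X, IsPGroup 2 Q ∧ Q ≤ centralizer ({z1} : Set X) ∧
      R ≤ Q ∧ ¬ Q ≤ R := by
    obtain ⟨P, hP⟩ := (hR2.comap_subtype (K := centralizer ({z1} : Set X))).exists_le_sylow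
    refine ⟨(P : Subgroup (centralizer ({z1} : Set X))).map (centralizer ({z1} : Set X)).subtype, P.2.map _,
      map_subtype_le _, fun x hx => ⟨⟨x, hRz1 hx⟩, hP hx, rfl⟩, fun hle => ?_⟩
    let f : (S : Subgroup X) →* centralizer ({z1} : Set X) := MonoidHom.mk'
      (fun s => ⟨g * s * g⁻¹, by
        rw [hz1def, centralizer_conj]
        simpa [mul_assoc] using hcen s.2⟩)
      (fun a b => Subtype.ext (by simp [mul_assoc]))
    have hf : Function.Injective f := fun a b e =>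
      Subtype.ext (mul_left_cancel (mul_right_cancel (congrArg Subtype.val e)))
    obtain ⟨P', hP'⟩ := (S.2.of_surjective f.rangeRestrict f.rangeRestrict_surjective :
      IsPGroup 2 f.range).exists_le_sylow
    have h1 : Nat.card (S : Subgroup X) ≤ Nat.card (P' : Subgroup (centralizer ({z1} : Set X))) :=
      Nat.card_le_card_of_injective (fun s => ⟨f s, hP' ⟨s, rfl⟩⟩) fun a b e => hf (congrArg Subtype.val e)
    rw [P'.card_eq_multiplicity, ← P.card_eq_multiplicity,
      Nat.card_congr ((P : Subgroup (centralizer ({z1} : Set X))).equivMapOfInjective _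
        (Subgroup.subtype_injective _)).toEquiv] at h1
    refine hSR ?_
    rw [← eq_of_le_of_card_ge (inf_le_left : R ≤ (S : Subgroup X)) (h1.trans
      (Nat.card_le_card_of_injective _ (inclusion_injective hle)))]
    exact hRz1
  haveI := hQ2.isNilpotent
  obtain ⟨t', ht'Q, ht'N, ht'R⟩ := Isolated.exists_mem_normalizer_inf hRQ hQR
  have ht'1 : t' * z1 * t'⁻¹ = z1 := by
    rw [mem_centralizer_singleton_iff.1 (hQ1 ht'Q), mul_inv_cancel_right]
  have ht'z : t' * z * t'⁻¹ = z * z1 := by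
    rcases hinv _ ((mem_normalizer_iff.1 ht'N z).1 hzR) (orderOf_conj_two hz t') with e | e | e
    · exfalso
      have hQ' : IsPGroup 2 (R ⊔ zpowers t' : Subgroup X) :=
        hQ2.to_le (sup_le hRQ (zpowers_le.2 ht'Q))
      have := hmaxR _ hQ' le_sup_left (sup_le hRz (zpowers_le.2
          (mem_centralizer_singleton_iff.2 (mul_inv_eq_iff_eq_mul.1 e))))
        (sup_le hRz1 (zpowers_le.2 (hQ1 ht'Q)))
      exact ht'R (this.le (mem_sup_right (mem_zpowers t')))
    · exact absurd ((MulAut.conj t').injective (by simp only [MulAut.conj_apply]; rw [e, ht'1])) hgne.symm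
    · exact e
  -- an element of maximal order
  obtain ⟨x, hxR, hxmax⟩ := Finset.exists_max_image (Finset.univ.filter fun u : X => u ∈ R) orderOf
    ⟨1, Finset.mem_filter.2 ⟨Finset.mem_univ _, one_mem R⟩⟩
  have hxR' : x ∈ R := (Finset.mem_filter.1 hxR).2
  have hmaxo : ∀ u ∈ R, orderOf u ≤ orderOf x := fun u hu => hxmax u (Finset.mem_filter.2 ⟨Finset.mem_univ _, hu⟩)
  obtain ⟨n, hn⟩ := (IsPGroup.iff_orderOf.1 hR2) ⟨x, hxR'⟩
  rw [Subgroup.orderOf_mk] at hn
  obtain ⟨i, rfl⟩ : ∃ i, n = i + 2 := by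
    have h4 : 2 < orderOf x := by
      refine lt_of_lt_of_le ?_ (hmaxo u0 hu0)
      obtain ⟨m, hm⟩ := (IsPGroup.iff_orderOf.1 hR2) ⟨u0, hu0⟩
      rw [Subgroup.orderOf_mk] at hm
      rcases m with - | - | m
      · exact absurd (by rw [orderOf_eq_one_iff.1 hm, one_mul]) hu02
      · refine absurd ?_ hu02
        rw [← pow_two]
        have := pow_orderOf_eq_one u0
        rwa [hm, pow_one] at this
      · rw [hm]
        exact lt_of_lt_of_le (by norm_num : 2 < 2 ^ 2) (Nat.pow_le_pow_right two_pos (by omega))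
    refine ⟨n - 2, ?_⟩
    rcases n with - | - | n
    · rw [hn, pow_zero] at h4; omega
    · rw [hn, pow_one] at h4; omega
    · omega
  have htopz : ∀ (a : X), a ∈ normalizer (R : Set X) → ∀ r ∈ R, orderOf r = 2 ^ (i + 2) → ∀ w,
      r ^ 2 ^ (i + 1) = w → a * r * a⁻¹ ∈ R ∧ orderOf (a * r * a⁻¹) = 2 ^ (i + 2) ∧
        (a * r * a⁻¹) ^ 2 ^ (i + 1) = a * w * a⁻¹ := fun a ha r hr hro w hw =>
    ⟨(mem_normalizer_iff.1 ha r).1 hr, by rw [show a * r * a⁻¹ = MulAut.conj a r by simp, MulEquiv.orderOf_eq, hro],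
      by rw [conj_pow, hw]⟩
  obtain ⟨r, hrR, hro, hr1⟩ : ∃ r ∈ R, orderOf r = 2 ^ (i + 2) ∧ r ^ 2 ^ (i + 1) = z1 := by
    have hwo : orderOf (x ^ 2 ^ (i + 1)) = 2 := by
      refine orderOf_eq_prime ?_ (fun e => ?_)
      · rw [← pow_mul, ← pow_succ, show i + 1 + 1 = i + 2 from rfl, ← hn, pow_orderOf_eq_one]
      · have h3 := Nat.le_of_dvd (pow_pos two_pos _) (hn ▸ orderOf_dvd_of_pow_eq_one e)
        exact absurd h3 (not_le.2 (Nat.pow_lt_pow_right (by omega) (by omega)))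
    rcases hinv _ (pow_mem hxR' _) hwo with e | e | e
    · obtain ⟨h1, h2, h3⟩ := htopz t' ht'N x hxR' hn z e
      obtain ⟨h4, h5, h6⟩ := htopz t htN _ h1 h2 _ (ht'z ▸ h3)
      refine ⟨_, h4, h5, h6.trans ?_⟩
      rw [show t * (z * z1) * t⁻¹ = t * z * t⁻¹ * (t * z1 * t⁻¹) by group, htz, ht1, ← mul_assoc, invol_sq hz, one_mul]
    · exact ⟨x, hxR', hn, e⟩
    · obtain ⟨h1, h2, h3⟩ := htopz t htN x hxR' hn _ e
      refine ⟨_, h1, h2, h3.trans ?_⟩
      rw [show t * (z * z1) * t⁻¹ = t * z * t⁻¹ * (t * z1 * t⁻¹) by group, htz, ht1, ← mul_assoc, invol_sq hz, one_mul]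
  obtain ⟨htr, -, htr1⟩ := htopz t htN r hrR hro z1 hr1
  rw [ht1] at htr1
  have hcr : (r⁻¹ * (t * r * t⁻¹)) ^ 2 ^ (i + 1) = z := by
    rw [(hab _ (inv_mem hrR) _ htr).mul_pow, htr1, inv_pow, hr1, inv_eq_of_mul_eq_one_right (invol_sq hz1),
      ← mul_assoc, ← hzz1.eq, mul_assoc, invol_sq hz1, mul_one]
  obtain ⟨p, y, hp, hp2, hy, hc⟩ := hodd
  obtain ⟨w, hwS, hwy, hw2⟩ := c.maxN.exists_sqrt hz hp hp2 hy hc S.2 hcen hrR.1 htS
  have hwo : orderOf w = 2 ^ (i + 3) := by
    refine orderOf_eq_prime_pow (n := i + 2) ?_ ?_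
    · rw [pow_succ' 2 (i + 1), pow_mul, pow_two, hw2, hcr]
      exact hz01
    · rw [show i + 2 + 1 = (i + 1) + 1 + 1 by omega, pow_succ' 2 (i + 1 + 1), pow_mul, pow_two, hw2,
        pow_succ, pow_mul, hcr, pow_two, invol_sq hz]
  have hw1 : w ≠ 1 := fun e => by
    rw [e, orderOf_one] at hwo
    exact absurd hwo (ne_of_lt (Nat.one_lt_pow (by omega) one_lt_two))
  have hNw := c.maxN.normalizer_zpowers_eq (b := 1) Nat.prime_two hp hp2.symm hwo (by rw [hy, pow_one]) hw1
    (fun e => by rw [e, orderOf_one] at hy; exact hp.ne_one hy.symm) hwy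
  have hrw : r ∈ normalizer (zpowers w : Set X) := by
    rw [hNw, ← c.maxN.centralizer_eq hz hp hp2 hy hc]
    exact hcen hrR.1
  obtain ⟨m, hm⟩ := mem_zpowers_iff.1 (mem_normalizer_zpowers.1 hrw)
  have hm2 : (w * w) ^ m = w * w := by
    calc (w * w) ^ m = w ^ m * w ^ m := (Commute.refl w).mul_zpow m
      _ = r * (w * w) * r⁻¹ := by rw [hm]; group
      _ = w * w := by
        rw [hw2, (hab r hrR _ (mul_mem (inv_mem hrR) htr)).eq, mul_inv_cancel_right]
  have hdvd : (2 : ℤ) ^ (i + 2) ∣ m - 1 := by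
    have h1 : w ^ (2 * (m - 1)) = 1 := by
      rw [zpow_mul, zpow_two, zpow_sub, hm2, zpow_one, mul_inv_cancel]
    rw [← orderOf_dvd_iff_zpow_eq_one, hwo] at h1
    push_cast at h1
    rw [pow_succ' (2 : ℤ) (i + 2)] at h1
    exact (mul_dvd_mul_iff_left (two_ne_zero)).1 h1
  have hr2w : Commute (r * r) w := by
    have h2 : r * r * w * (r * r)⁻¹ = w := by
      calc r * r * w * (r * r)⁻¹ = r * (r * w * r⁻¹) * r⁻¹ := by group
        _ = (r * w * r⁻¹) ^ m := by rw [← hm, conj_zpow_eq, hm]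
        _ = w ^ (m * m) := by rw [← hm, ← zpow_mul]
        _ = w := by
          conv_rhs => rw [← zpow_one w]
          rw [zpow_eq_zpow_iff_modEq, hwo, Int.modEq_comm, Int.modEq_iff_dvd]
          obtain ⟨k, hk⟩ := hdvd
          push_cast
          refine ⟨k + 2 ^ (i + 1) * k * k, ?_⟩
          rw [show m = 1 + 2 ^ (i + 2) * k by linarith]
          ring
    exact mul_inv_eq_iff_eq_mul.1 h2
  have hwz1 : Commute z1 w := by
    rw [← hr1, pow_succ' 2 i, pow_mul, pow_two]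
    exact hr2w.pow_left _
  have hwR : w ∈ R := ⟨hwS, mem_centralizer_singleton_iff.2 hwz1.symm⟩
  have := hmaxo w hwR
  rw [hn, hwo] at this
  exact absurd this (not_le.2 (Nat.pow_lt_pow_right (by omega) (by omega)))

end CfsgLib.FGThirteen
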