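import Cfsg.Agent.Lib.FGThirteen.Basic
import Cfsg.Agent.Lib.GW.InvolPSL
import Cfsg.Agent.Lib.Classical.SL2Sylow
import Cfsg.Agent.Lib.Perm.Dickson.ListExc
import Cfsg.Agent.S0802
import Cfsg.Agent.S0804
import Cfsg.Agent.S0809
import Cfsg.Agent.S0811
import Cfsg.Agent.S0812

/-!
# Maximal normalisers when the minimal normal subgroup is `PSL(2, q)`
-/

set_option autoImplicit false
set_option linter.style.haveILetI false

namespace CfsgLib.FGThirteen

open Subgroup Matrix

variable {X : Type*} [Group X] [Finite X]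

theorem small_of_primes {H : Subgroup X} {p q : ℕ} (hp : p.Prime) (hq : q.Prime) {a b : ℕ}
    (h : ∀ x ∈ H, orderOf x ∣ p ^ a * q ^ b) : Small H := by
  refine ⟨p, q, hp, hq, fun r hr hd => ?_⟩
  haveI := Fact.mk hr
  obtain ⟨x, hx⟩ := exists_prime_orderOf_dvd_card' r hd
  rw [← Subgroup.orderOf_coe] at hx
  rcases hr.dvd_mul.1 (hx ▸ h _ x.2) with h' | h'
  · exact Or.inl ((Nat.prime_dvd_prime_iff_eq hr hp).1 (hr.dvd_of_dvd_pow h'))
  · exact Or.inr ((Nat.prime_dvd_prime_iff_eq hr hq).1 (hr.dvd_of_dvd_pow h'))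

theorem small_of_isPGroup {H : Subgroup X} {p : ℕ} [hp : Fact p.Prime] (h : IsPGroup p H) : Small H := by
  refine small_of_primes (a := Nat.card H) (b := 0) hp.out hp.out fun x hx => ?_
  obtain ⟨k, hk⟩ := IsPGroup.iff_orderOf.1 h ⟨x, hx⟩
  rw [Subgroup.orderOf_mk] at hk
  rw [pow_zero, mul_one, hk]
  refine pow_dvd_pow p ?_
  have h1 : p ^ k ≤ Nat.card H := by
    rw [← hk, ← Nat.card_zpowers]
    exact Nat.card_le_card_of_injective _ (inclusion_injective (zpowers_le.2 hx))
  exact (Nat.lt_pow_self hp.out.one_lt).le.trans h1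

/-- Two nested normalisers of small subgroups coincide. -/
theorem MaxN.normalizer_eq_top_case (h : MaxN X) {A B : Subgroup X} (hA : A ≠ ⊥) (hA' : Small A) (hB : B ≠ ⊥)
    (hB' : Small B) (hle : normalizer (A : Set X) ≤ normalizer (B : Set X)) :
    normalizer (A : Set X) = normalizer (B : Set X) :=
  ((h A hA hA').le_iff_eq (h B hB hB').1).1 hle |>.symm

/-- A dihedral subgroup of order `2 n` with `3 ∣ n` forces `n ∣ 6`. -/
theorem dihedral_dvd_six (h : MaxN X) {n : ℕ} [NeZero n] (h3 : 3 ∣ n) (φ : DihedralGroup n →* X)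
    (hφ : Function.Injective φ) : n ∣ 6 := by
  obtain ⟨m, rfl⟩ := h3
  let A : Subgroup (DihedralGroup (3 * m)) :=
    { carrier := {g | ∃ i : ZMod (3 * m), g = DihedralGroup.r i ∧ 3 * i = 0}
      one_mem' := ⟨0, DihedralGroup.one_def, mul_zero _⟩
      mul_mem' := by
        rintro _ _ ⟨i, rfl, hi⟩ ⟨j, rfl, hj⟩
        exact ⟨i + j, DihedralGroup.r_mul_r i j, by rw [mul_add, hi, hj, add_zero]⟩
      inv_mem' := by
        rintro _ ⟨i, rfl, hi⟩
        exact ⟨-i, rfl, by rw [mul_neg, hi, neg_zero]⟩ }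
  let D : Subgroup (DihedralGroup (3 * m)) :=
    { carrier := {g | ∃ i : ZMod (3 * m), (g = DihedralGroup.r i ∨ g = DihedralGroup.sr i) ∧ 3 * i = 0}
      one_mem' := ⟨0, Or.inl DihedralGroup.one_def, mul_zero _⟩
      mul_mem' := by
        rintro _ _ ⟨i, hg, hi⟩ ⟨j, hk, hj⟩
        rcases hg with rfl | rfl <;> rcases hk with rfl | rfl
        · exact ⟨i + j, Or.inl (DihedralGroup.r_mul_r i j), by rw [mul_add, hi, hj, add_zero]⟩
        · exact ⟨j - i, Or.inr (DihedralGroup.r_mul_sr i j), by rw [mul_sub, hi, hj, sub_zero]⟩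
        · exact ⟨i + j, Or.inr (DihedralGroup.sr_mul_r i j), by rw [mul_add, hi, hj, add_zero]⟩
        · exact ⟨j - i, Or.inl (DihedralGroup.sr_mul_sr i j), by rw [mul_sub, hi, hj, sub_zero]⟩
      inv_mem' := by
        rintro _ ⟨i, rfl | rfl, hi⟩
        · exact ⟨-i, Or.inl rfl, by rw [mul_neg, hi, neg_zero]⟩
        · exact ⟨i, Or.inr rfl, hi⟩ }
  have hr3 : ∀ i : ZMod (3 * m), 3 * i = 0 → (DihedralGroup.r i) ^ 3 = 1 := fun i hi => by
    rw [DihedralGroup.r_pow, show i * ((3 : ℕ) : ZMod (3 * m)) = 0 by rw [← hi]; push_cast; ring,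
      DihedralGroup.r_zero]
  have hsA : Small (A.map φ) := by
    refine small_of_primes (a := 1) (b := 0) Nat.prime_three Nat.prime_three ?_
    rintro _ ⟨_, ⟨i, rfl, hi⟩, rfl⟩
    rw [pow_one, pow_zero, mul_one, orderOf_dvd_iff_pow_eq_one, ← map_pow, hr3 i hi, map_one]
  have hsD : Small (D.map φ) := by
    refine small_of_primes (a := 1) (b := 1) Nat.prime_two Nat.prime_three ?_
    rintro _ ⟨_, ⟨i, rfl | rfl, hi⟩, rfl⟩
    · refine (orderOf_dvd_iff_pow_eq_one.2 ?_).trans (dvd_mul_left 3 2)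
      rw [← map_pow, hr3 i hi, map_one]
    · refine (orderOf_dvd_iff_pow_eq_one.2 ?_).trans (dvd_mul_right 2 3)
      rw [← map_pow, pow_two, DihedralGroup.sr_mul_self, map_one]
  have hm3 : 3 * (m : ZMod (3 * m)) = 0 := by
    have := ZMod.natCast_self (3 * m)
    rwa [Nat.cast_mul, Nat.cast_ofNat] at this
  have hm0 : (m : ZMod (3 * m)) ≠ 0 := fun h0 => by
    have := Nat.le_of_dvd (by have := NeZero.ne (3 * m); omega) ((ZMod.natCast_eq_zero_iff m (3 * m)).1 h0)
    have := NeZero.ne (3 * m)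
    omega
  have hA1 : A.map φ ≠ ⊥ := fun hb => by
    have h1 := (Subgroup.eq_bot_iff_forall _).1 hb _ (mem_map_of_mem φ (show DihedralGroup.r (m : ZMod (3 * m)) ∈ A from
      ⟨m, rfl, hm3⟩))
    exact hm0 (DihedralGroup.r.inj ((hφ (h1.trans (map_one φ).symm)).trans DihedralGroup.one_def))
  have hAD : A ≤ D := fun _ ⟨i, e, hi⟩ => ⟨i, Or.inl e, hi⟩
  have hD1 : D.map φ ≠ ⊥ := fun hb => hA1 (le_bot_iff.1 (hb ▸ map_mono hAD))
  have hle : normalizer ((D.map φ : Subgroup X) : Set X) ≤ normalizer ((A.map φ : Subgroup X) : Set X) := by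
    have key : ∀ g ∈ normalizer ((D.map φ : Subgroup X) : Set X), ∀ x ∈ A.map φ, g * x * g⁻¹ ∈ A.map φ := by
      intro g hg x hx
      obtain ⟨u, ⟨i, rfl, hi⟩, rfl⟩ := hx
      obtain ⟨w, ⟨j, hw, hj⟩, hwe⟩ :=
        (mem_normalizer_iff.1 hg _).1 (mem_map_of_mem φ (hAD (show DihedralGroup.r i ∈ A from ⟨i, rfl, hi⟩)))
      have hw3 : w ^ 3 = 1 := hφ (by rw [map_pow, hwe, conj_pow, ← map_pow, hr3 i hi, map_one]; group)
      rcases hw with rfl | rfl
      · exact ⟨_, ⟨j, rfl, hj⟩, hwe⟩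
      · rw [pow_succ, pow_two, DihedralGroup.sr_mul_self, one_mul, DihedralGroup.one_def] at hw3
        nomatch hw3
    intro g hg
    refine mem_normalizer_iff.2 fun x => ⟨key g hg x, fun hx => ?_⟩
    have := key g⁻¹ (inv_mem hg) _ hx
    simpa [mul_assoc] using this
  have heq := h.normalizer_eq_top_case hD1 hsD hA1 hsA hle
  have hg : φ (DihedralGroup.r 1) ∈ normalizer ((D.map φ : Subgroup X) : Set X) := by
    rw [heq]
    refine mem_normalizer_iff.2 fun x => ?_
    have hc : ∀ u ∈ A.map φ, φ (DihedralGroup.r 1) * u = u * φ (DihedralGroup.r 1) := by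
      rintro _ ⟨_, ⟨i, rfl, hi⟩, rfl⟩
      rw [← map_mul, ← map_mul, DihedralGroup.r_mul_r, DihedralGroup.r_mul_r, add_comm]
    constructor
    · intro hx; rwa [hc x hx, mul_inv_cancel_right]
    · intro hx
      have := hc _ hx
      rw [show φ (DihedralGroup.r 1) * x * (φ (DihedralGroup.r 1))⁻¹ * φ (DihedralGroup.r 1) =
        φ (DihedralGroup.r 1) * x by group] at this
      rwa [mul_left_cancel this] at hx
  obtain ⟨w, ⟨j, hw, hj⟩, hwe⟩ := (mem_normalizer_iff.1 hg (φ (DihedralGroup.sr 0))).1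
    (mem_map_of_mem φ ⟨0, Or.inr rfl, mul_zero _⟩)
  rw [← map_inv, ← map_mul, ← map_mul] at hwe
  have e := hφ hwe
  rw [DihedralGroup.r_mul_sr, DihedralGroup.inv_r, DihedralGroup.sr_mul_r] at e
  rcases hw with rfl | rfl
  · nomatch e
  · rw [DihedralGroup.sr.injEq] at e
    rw [e] at hj
    refine (ZMod.natCast_eq_zero_iff 6 (3 * m)).1 ?_
    push_cast
    linear_combination -hj

omit [Finite X] in
/-- The four subgroup and the element of order three of an alternating subgroup of degree four. -/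
theorem a4_data (φ : alternatingGroup (Fin 4) →* X) (hφ : Function.Injective φ) :
    ∃ (V : Subgroup X) (y : X), IsKleinFour V ∧ φ.range ≤ normalizer (V : Set X) ∧ V ≤ φ.range ∧ y ∈ φ.range ∧
      orderOf y = 3 ∧ ∀ a ∈ V, a ≠ 1 → y * a * y⁻¹ ≠ a := by
  have h4 : Nat.card (Fin 4) = 4 := by simp
  haveI := alternatingGroup.kleinFour_isKleinFour h4
  haveI := alternatingGroup.normal_kleinFour h4
  set K := alternatingGroup.kleinFour (Fin 4)
  let e : K ≃* K.map φ := K.equivMapOfInjective φ hφ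
  obtain ⟨y, hy⟩ : ∃ y : alternatingGroup (Fin 4), y * y * y = 1 ∧ y ≠ 1 := by decide +kernel
  have key : ∀ a y : alternatingGroup (Fin 4), a * a = 1 → y * y * y = 1 → y * a * y⁻¹ = a → a = 1 ∨ y = 1 := by
    decide +kernel
  refine ⟨K.map φ, φ y, ⟨?_, ?_⟩, ?_, map_le_range φ K, ⟨y, rfl⟩, ?_, ?_⟩
  · rw [← Nat.card_congr e.toEquiv]; exact IsKleinFour.card_four
  · rw [← Monoid.exponent_eq_of_mulEquiv e]; exact IsKleinFour.exponent_two
  · rintro _ ⟨g, rfl⟩
    exact le_normalizer_map φ ⟨g, by rw [K.normalizer_eq_top]; exact mem_top g, rfl⟩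
  · rw [orderOf_injective φ hφ]
    haveI : Fact (Nat.Prime 3) := ⟨Nat.prime_three⟩
    exact orderOf_eq_prime (by rw [pow_succ, pow_two]; exact hy.1) hy.2
  · rintro _ ⟨a, ha, rfl⟩ ha1 hc
    rw [← map_inv, ← map_mul, ← map_mul] at hc
    rcases key a y (congrArg Subtype.val (IsKleinFour.mul_self (⟨a, ha⟩ : K))) hy.1 (hφ hc) with h1 | h1
    · exact ha1 (by rw [h1, map_one])
    · exact hy.2 h1

/-- The normaliser of a self-centralising four group has order at most 24. -/
theorem card_normalizer_le {V : Subgroup X} (hV : IsKleinFour V) (hc : centralizer (V : Set X) = V) :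
    Nat.card (normalizer (V : Set X)) ≤ 24 := by
  classical
  haveI := Fintype.ofFinite V
  have h1 : Nat.card (MulAut V) ≤ 6 := by
    let r : MulAut V → Equiv.Perm {x : V // x ≠ 1} := fun σ =>
      σ.toEquiv.subtypeEquiv fun x => (map_eq_one_iff σ σ.injective).not.symm
    refine (Nat.card_le_card_of_injective r fun σ τ e => ?_).trans (le_of_eq ?_)
    · ext x
      by_cases hx : x = 1
      · rw [hx, map_one, map_one]
      · exact congrArg (fun z : {x : V // x ≠ 1} => ((z : V) : X)) (DFunLike.congr_fun e ⟨x, hx⟩)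
    · rw [Nat.card_perm, Nat.card_eq_fintype_card, Fintype.card_subtype_compl, Fintype.card_subtype_eq,
        ← Nat.card_eq_fintype_card, hV.card_four]
      rfl
  set f := V.normalizerMonoidHom
  have hk : Nat.card f.ker = 4 := by
    rw [show f.ker = _ from normalizerMonoidHom_ker V, hc,
      Nat.card_congr (subgroupOfEquivOfLe le_normalizer).toEquiv, hV.card_four]
  have := Subgroup.index_mul_card f.ker
  rw [index_ker, hk] at this
  have := Subgroup.card_le_card_group f.range
  omega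

/-- A four group that is a Sylow 2-subgroup of a normal subgroup and normalised there by an element of order
three forces that subgroup to be everything. -/
theorem eq_top_of_sylow_four (h : MaxN X) {T : Subgroup X} [T.Normal] (h2 : ¬ 8 ∣ Nat.card T) {V : Subgroup X}
    (hV : IsKleinFour V) (hc : centralizer (V : Set X) = V) (hVT : V ≤ T) {y : X} (hyT : y ∈ T)
    (hy : orderOf y = 3) (hyV : y ∈ normalizer (V : Set X)) (hym : ∀ a ∈ V, a ≠ 1 → y * a * y⁻¹ ≠ a) : T = ⊤ := by
  classical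
  haveI : Fact (Nat.Prime 2) := ⟨Nat.prime_two⟩
  haveI := hV
  set N := normalizer (V : Set X) with hN
  have hV4 : Nat.card V = 4 := hV.card_four
  have hVp : IsPGroup 2 (V.subgroupOf T) := IsPGroup.of_card (n := 2) (by
    rw [Nat.card_congr (subgroupOfEquivOfLe hVT).toEquiv, hV4]; norm_num)
  obtain ⟨P, hP⟩ := hVp.exists_le_sylow
  have hPV : (P : Subgroup T) = V.subgroupOf T := by
    refine (Subgroup.eq_of_le_of_card_ge hP ?_).symm
    rw [Nat.card_congr (subgroupOfEquivOfLe hVT).toEquiv, hV4]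
    obtain ⟨k, hk⟩ := IsPGroup.iff_card.1 P.2
    have hd := hk ▸ (P : Subgroup T).card_subgroup_dvd_card
    rw [hk]
    rcases le_or_gt k 2 with hk2 | hk2
    · calc 2 ^ k ≤ 2 ^ 2 := Nat.pow_le_pow_right (by norm_num) hk2
        _ = 4 := by norm_num
    · exact absurd ((show (8 : ℕ) ∣ 2 ^ k from pow_dvd_pow 2 hk2).trans hd) h2
  have hfr : N ⊔ T = ⊤ := by
    have := P.normalizer_sup_eq_top
    rwa [hPV, subgroupOf_map_subtype, inf_of_le_left hVT] at this
  by_contra hT
  have hNT : ¬ N ≤ T := fun hle => hT (by rwa [sup_of_le_right hle] at hfr)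
  set M := N ⊓ T with hM
  have hMN : M ≤ N := inf_le_left
  have h12 : 12 ∣ Nat.card M := by
    have h1 : 3 ∣ Nat.card M := hy ▸ Subgroup.orderOf_coe (⟨y, hyV, hyT⟩ : M) ▸ orderOf_dvd_natCard _
    have h4 : 4 ∣ Nat.card M := hV4 ▸ card_dvd_of_le (le_inf le_normalizer hVT)
    exact Nat.Coprime.mul_dvd_of_dvd_of_dvd (by norm_num : Nat.Coprime 3 4) h1 h4
  have hlt : Nat.card M < Nat.card N := by
    refine lt_of_le_of_ne (Subgroup.card_le_of_le hMN) fun e => hNT ?_
    exact (Subgroup.eq_of_le_of_card_ge hMN e.ge) ▸ inf_le_right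
  have h24 : Nat.card N = 24 ∧ Nat.card M = 12 := by
    obtain ⟨k, hk⟩ := h12
    obtain ⟨l, hl⟩ := card_dvd_of_le hMN
    have := card_normalizer_le hV hc
    have hk0 : 0 < Nat.card M := Nat.card_pos
    rw [hl] at this hlt
    have hl2 : 2 ≤ l := by
      by_contra hl1
      have : Nat.card M * l ≤ Nat.card M * 1 := Nat.mul_le_mul_left _ (by omega)
      omega
    have : Nat.card M * 2 ≤ Nat.card M * l := Nat.mul_le_mul_left _ hl2
    exact ⟨by rw [hl]; omega, by omega⟩
  -- a Sylow 2-subgroup of the normaliser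
  obtain ⟨S, hSN, hS⟩ : ∃ S : Subgroup X, S ≤ N ∧ Nat.card S = 8 := by
    obtain ⟨S, hS⟩ := Sylow.exists_subgroup_card_pow_prime 2 (G := N) (n := 3) (by rw [h24.1]; norm_num)
    exact ⟨S.map N.subtype, map_subtype_le _, by rw [Subgroup.card_subtype, hS]; norm_num⟩
  have hVS : V ≤ S := by
    have hp : IsPGroup 2 (S ⊔ V : Subgroup X) :=
      (IsPGroup.of_card (n := 3) (by rw [hS]; norm_num)).to_sup_of_normal_right' (IsPGroup.of_card (n := 2) hV4) hSN
    obtain ⟨k, hk⟩ := IsPGroup.iff_card.1 hp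
    have hd := hk ▸ card_dvd_of_le (sup_le hSN le_normalizer)
    rw [h24.1] at hd
    have hk3 : k ≤ 3 := by
      by_contra hk3
      have := (pow_dvd_pow 2 (show 4 ≤ k by omega)).trans hd
      norm_num at this
    refine le_sup_right.trans (Subgroup.eq_of_le_of_card_ge le_sup_left ?_).ge
    rw [hk, hS]
    calc 2 ^ k ≤ 2 ^ 3 := Nat.pow_le_pow_right (by norm_num) hk3
      _ = 8 := by norm_num
  have hST : S ⊓ T = V := by
    refine (Subgroup.eq_of_le_of_card_ge (le_inf hVS hVT) ?_).symm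
    have hd : Nat.card (S ⊓ T : Subgroup X) ∣ 8 := hS ▸ card_dvd_of_le inf_le_left
    have hd' : Nat.card (S ⊓ T : Subgroup X) ∣ 12 := h24.2 ▸ card_dvd_of_le (inf_le_inf_right T hSN)
    rw [hV4]
    exact Nat.le_of_dvd (by norm_num) ((Nat.dvd_gcd hd hd').trans (by norm_num))
  have hSne : S ≠ ⊥ := fun e => by rw [e, card_bot] at hS; norm_num at hS
  have hVne : V ≠ ⊥ := fun e => by rw [e, card_bot] at hV4; norm_num at hV4
  have hle : normalizer (S : Set X) ≤ N := fun g hg => by
    rw [hN, ← hST, mem_normalizer_iff]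
    intro x
    exact and_congr (mem_normalizer_iff.1 hg x)
      ⟨fun hx => Subgroup.Normal.conj_mem inferInstance x hx g, fun hx => by
        simpa [mul_assoc] using Subgroup.Normal.conj_mem (H := T) inferInstance _ hx g⁻¹⟩
  have hNS := h.normalizer_eq_top_case hSne (small_of_isPGroup (IsPGroup.of_card (p := 2) (n := 3) (by rw [hS]; norm_num)))
    hVne (small_of_isPGroup (IsPGroup.of_card (p := 2) (n := 2) hV4)) hle
  obtain ⟨s, hsS, hsV⟩ : ∃ s ∈ S, s ∉ V := SetLike.not_le_iff_exists.1 fun hle => by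
    have := Subgroup.card_le_of_le hle
    omega
  have hss : s * s ∈ V := by
    have hi : (V.subgroupOf S).index = 2 := by
      have := Subgroup.card_mul_index (V.subgroupOf S)
      rw [Nat.card_congr (subgroupOfEquivOfLe hVS).toEquiv, hV4, hS] at this
      omega
    exact Subgroup.mul_self_mem_of_index_two hi (⟨s, hsS⟩ : S)
  have hsN : s ∈ N := hSN hsS
  have hab : ∀ u ∈ V, ∀ v ∈ V, u * v = v * u := fun u hu v hv =>
    mem_centralizer_iff.1 (hc.ge hv) u hu
  have hw : y * s * y⁻¹ * s⁻¹ ∈ V := by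
    rw [← hST]
    refine ⟨mul_mem ((mem_normalizer_iff.1 (hNS ▸ hyV : y ∈ normalizer (S : Set X)) s).1 hsS) (S.inv_mem hsS), ?_⟩
    rw [show y * s * y⁻¹ * s⁻¹ = y * (s * y⁻¹ * s⁻¹) by group]
    exact mul_mem hyT (Subgroup.Normal.conj_mem inferInstance _ (T.inv_mem hyT) s)
  set cy : X → X := fun a => y * a * y⁻¹
  set cs : X → X := fun a => s * a * s⁻¹
  have hcy : ∀ a ∈ V, cy a ∈ V := fun a ha => (mem_normalizer_iff.1 hyV a).1 ha
  have hcs : ∀ a ∈ V, cs a ∈ V := fun a ha => (mem_normalizer_iff.1 hsN a).1 ha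
  have hcomm : ∀ a ∈ V, cs (cy a) = cy (cs a) := fun a ha => by
    have hb := hcs _ (hcy a ha)
    have e := hab _ hw _ hb
    show s * (y * a * y⁻¹) * s⁻¹ = y * (s * a * s⁻¹) * y⁻¹
    calc s * (y * a * y⁻¹) * s⁻¹
        = ((y * s * y⁻¹ * s⁻¹) * cs (cy a)) * (y * s * y⁻¹ * s⁻¹)⁻¹ := by rw [e, mul_inv_cancel_right]
      _ = y * (s * a * s⁻¹) * y⁻¹ := by simp only [cs, cy]; group
  have hs2 : ∀ a ∈ V, cs (cs a) = a := fun a ha => by
    show s * (s * a * s⁻¹) * s⁻¹ = a
    rw [show s * (s * a * s⁻¹) * s⁻¹ = (s * s) * a * (s * s)⁻¹ by group, hab _ hss a ha, mul_inv_cancel_right]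
  obtain ⟨a, ha, ha1⟩ := V.ne_bot_iff_exists_ne_one.1 hVne |> fun ⟨x, hx⟩ =>
    (⟨x.1, x.2, fun e => hx (Subtype.ext e)⟩ : ∃ a, a ∈ V ∧ a ≠ 1)
  have hb1 : cy a ≠ 1 := fun e => ha1 (conj_eq_one_iff.1 e)
  have hc1 : cy (cy a) ≠ 1 := fun e => hb1 (conj_eq_one_iff.1 e)
  have hba : cy a ≠ a := hym a ha ha1
  have hcb : cy (cy a) ≠ cy a := hym _ (hcy a ha) hb1
  have hy3 : ∀ u : X, cy (cy (cy u)) = u := fun u => by
    show y * (y * (y * u * y⁻¹) * y⁻¹) * y⁻¹ = u
    rw [show y * (y * (y * u * y⁻¹) * y⁻¹) * y⁻¹ = y ^ 3 * u * (y ^ 3)⁻¹ by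
      simp only [pow_succ, pow_zero, one_mul, _root_.mul_inv_rev, mul_assoc], ← hy, pow_orderOf_eq_one]
    group
  have hca : cy (cy a) ≠ a := fun e => hba (by
    have := congrArg cy e
    rwa [hy3, eq_comm] at this)
  have hall : ∀ v ∈ V, v = 1 ∨ v = a ∨ v = cy a ∨ v = cy (cy a) := fun v hv => by
    haveI := Fintype.ofFinite V
    have hu := IsKleinFour.eq_finset_univ (G := V) (x := ⟨a, ha⟩) (y := ⟨cy a, hcy a ha⟩)
      (fun e => ha1 (congrArg Subtype.val e)) (fun e => hb1 (congrArg Subtype.val e))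
      (fun e => hba (congrArg Subtype.val e).symm)
    have hm : ∀ w : V, w = 1 ∨ w = ⟨a, ha⟩ ∨ w = ⟨cy a, hcy a ha⟩ ∨ w = ⟨a, ha⟩ * ⟨cy a, hcy a ha⟩ := fun w => by
      have := hu ▸ Finset.mem_univ w
      simp only [Finset.mem_insert, Finset.mem_singleton] at this
      tauto
    have h3 : (⟨cy (cy a), hcy _ (hcy a ha)⟩ : V) = ⟨a, ha⟩ * ⟨cy a, hcy a ha⟩ := by
      rcases hm ⟨cy (cy a), hcy _ (hcy a ha)⟩ with e | e | e | e
      · exact absurd (congrArg Subtype.val e) hc1
      · exact absurd (congrArg Subtype.val e) hca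
      · exact absurd (congrArg Subtype.val e) hcb
      · exact e
    rw [← h3] at hm
    simpa only [Subtype.ext_iff, OneMemClass.coe_one] using hm ⟨v, hv⟩
  have hfix : cs a = a := by
    rcases hall _ (hcs a ha) with e | e | e | e
    · exact absurd (conj_eq_one_iff.1 e) ha1
    · exact e
    · exfalso
      have := hs2 a ha
      rw [e, hcomm a ha, e] at this
      exact hca this
    · exfalso
      have := hs2 a ha
      rw [e, hcomm _ (hcy a ha), hcomm a ha, e, hy3] at this
      exact hba this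
  refine hsV (hc ▸ mem_centralizer_iff.2 fun v hv => ?_)
  have hfix' : cs v = v := by
    rcases hall v hv with rfl | rfl | rfl | rfl
    · exact conj_eq_one_iff.2 rfl
    · exact hfix
    · rw [hcomm a ha, hfix]
    · rw [hcomm _ (hcy a ha), hcomm a ha, hfix]
  exact (mul_inv_eq_iff_eq_mul.1 hfix').symm

/-- An isomorphism of fields gives one of projective special linear groups. -/
noncomputable def pslEquiv {F K : Type*} [Field F] [Field K] (σ : F ≃+* K) :
    ProjectiveSpecialLinearGroup (Fin 2) F ≃* ProjectiveSpecialLinearGroup (Fin 2) K :=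
  let eS : SpecialLinearGroup (Fin 2) F ≃* SpecialLinearGroup (Fin 2) K :=
    MulEquiv.ofBijective (SpecialLinearGroup.map (σ : F →+* K))
      ⟨fun A B hAB => Subtype.ext (Matrix.ext fun i j => σ.injective (congrFun₂ (congrArg Subtype.val hAB) i j)),
        fun B => ⟨SpecialLinearGroup.map (σ.symm : K →+* F) B, Subtype.ext (Matrix.ext fun i j => by simp)⟩⟩
  QuotientGroup.congr _ _ eS (by
    ext A
    rw [Subgroup.mem_map]
    constructor
    · rintro ⟨B, hB, rfl⟩
      refine mem_center_iff.2 fun D => ?_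
      have := congrArg eS (mem_center_iff.1 hB (eS.symm D))
      simpa using this
    · intro hA
      refine ⟨eS.symm A, mem_center_iff.2 fun D => eS.injective ?_, eS.apply_symm_apply A⟩
      simpa using mem_center_iff.1 hA (eS D))

/-- The field is a prime field. -/
theorem card_eq_prime (h : MaxN X) {F : Type*} [Field F] [Fintype F] (p : ℕ) [Fact p.Prime] [CharP F p]
    (h2 : (2 : F) ≠ 0) (ι : ProjectiveSpecialLinearGroup (Fin 2) F →* X) (hι : Function.Injective ι)
    (hn : ι.range.Normal) : Fintype.card F = p := by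
  classical
  haveI := hn
  let SL := Matrix.SpecialLinearGroup (Fin 2) F
  let π : SL →* ProjectiveSpecialLinearGroup (Fin 2) F := QuotientGroup.mk' (center SL)
  let u : F → SL := fun c => ⟨!![1, c; 0, 1], by simp [Matrix.det_fin_two]⟩
  have hu : ∀ a b : F, u a * u b = u (a + b) := fun a b => Subtype.ext (by
    show !![1, a; 0, 1] * !![1, b; 0, 1] = !![1, a + b; 0, 1]
    rw [Matrix.mul_fin_two]; ext i j; fin_cases i <;> fin_cases j <;> simp [add_comm])
  let ν : Multiplicative F →* X := MonoidHom.mk' (fun c => ι (π (u (Multiplicative.toAdd c)))) fun a b => by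
    rw [← map_mul, ← map_mul, hu]; rfl
  have hz : ∀ {Z : SL}, Z ∈ center SL → ∃ r : F, r * r = 1 ∧ Z.1 = !![r, 0; 0, r] := fun {Z} hZ => by
    obtain ⟨r, hr, e⟩ := Matrix.SpecialLinearGroup.mem_center_iff.1 hZ
    rw [Fintype.card_fin] at hr
    refine ⟨r, (pow_two r).symm.trans hr, ?_⟩
    rw [← e]
    ext i j
    fin_cases i <;> fin_cases j <;> simp
  have hcent : ∀ t : ProjectiveSpecialLinearGroup (Fin 2) F, t * π (u 1) = π (u 1) * t → ι t ∈ ν.range := by
    intro t ht
    obtain ⟨A, rfl⟩ := QuotientGroup.mk'_surjective (center SL) t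
    change π A * π (u 1) = π (u 1) * π A at ht
    rw [← map_mul, ← map_mul] at ht
    obtain ⟨r, hr, hZ⟩ := hz (QuotientGroup.eq.1 ht)
    have e : !![1, (1 : F); 0, 1] * A.1 = A.1 * !![1, (1 : F); 0, 1] * !![r, 0; 0, r] := by
      show (u 1 * A).1 = (A * u 1).1 * _
      rw [← hZ, ← Matrix.SpecialLinearGroup.coe_mul, mul_inv_cancel_left]
    have e00 := congrFun₂ e 0 0
    have e01 := congrFun₂ e 0 1
    have e10 := congrFun₂ e 1 0
    have e11 := congrFun₂ e 1 1
    simp [Matrix.mul_apply, Fin.sum_univ_two] at e00 e01 e10 e11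
    have hd := A.2
    rw [Matrix.det_fin_two] at hd
    rcases mul_self_eq_one_iff.1 hr with rfl | rfl
    · have hc : A.1 1 0 = 0 := by linear_combination e00
      have had : A.1 0 0 = A.1 1 1 := by linear_combination -e01
      rw [hc, ← had] at hd
      have ha : A.1 0 0 * A.1 0 0 = 1 := by linear_combination hd
      refine ⟨Multiplicative.ofAdd (A.1 0 0 * A.1 0 1), congrArg ι (QuotientGroup.eq.2 ?_)⟩
      refine Matrix.SpecialLinearGroup.mem_center_iff.2 ⟨A.1 0 0, by rw [Fintype.card_fin, pow_two, ha], ?_⟩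
      have hA : A = u (A.1 0 0 * A.1 0 1) * ⟨!![A.1 0 0, 0; 0, A.1 0 0], by simp [Matrix.det_fin_two, ha]⟩ := by
        refine Subtype.ext ?_
        show A.1 = !![1, A.1 0 0 * A.1 0 1; 0, 1] * !![A.1 0 0, 0; 0, A.1 0 0]
        rw [Matrix.mul_fin_two]
        ext i j
        fin_cases i <;> fin_cases j <;> simp [hc, ← had]
        linear_combination -A.1 0 1 * ha
      refine Eq.trans ?_ (congrArg Subtype.val (inv_mul_eq_iff_eq_mul.2 hA :
        (u (A.1 0 0 * A.1 0 1))⁻¹ * A = ⟨!![A.1 0 0, 0; 0, A.1 0 0], by simp [Matrix.det_fin_two, ha]⟩).symm)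
      ext i j
      fin_cases i <;> fin_cases j <;> simp
    · exfalso
      have hc : A.1 1 0 = 0 := (mul_eq_zero.1 (show (2 : F) * A.1 1 0 = 0 by linear_combination e10)).resolve_left h2
      rw [hc] at e00 hd
      have ha : A.1 0 0 = 0 := (mul_eq_zero.1 (show (2 : F) * A.1 0 0 = 0 by linear_combination e00)).resolve_left h2
      rw [ha] at hd
      simp at hd
  set x : X := ν (Multiplicative.ofAdd 1) with hx
  have hxne : x ≠ 1 := fun e => by
    obtain ⟨r, -, e'⟩ := hz ((QuotientGroup.eq_one_iff (u 1)).1 (hι (e.trans (map_one ι).symm)))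
    have := congrFun₂ e' 0 1
    simp [u] at this
  have hνp : IsPGroup p ν.range := by
    rintro ⟨_, c, rfl⟩
    refine ⟨1, Subtype.ext ?_⟩
    show ν c ^ (p ^ 1) = 1
    rw [pow_one, ← map_pow, show c ^ p = 1 from Multiplicative.toAdd.injective (by
      rw [toAdd_pow, toAdd_one, nsmul_eq_mul, CharP.cast_eq_zero, zero_mul]), map_one]
  have hle : normalizer (zpowers x : Set X) ≤ normalizer (ν.range : Set X) := by
    intro g hg
    obtain ⟨n, hn'⟩ := (mem_normalizer_iff.1 (inv_mem hg) x).1 (mem_zpowers x)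
    have hconj : ∀ c : Multiplicative F, g * ν c * g⁻¹ ∈ ν.range := fun c => by
      obtain ⟨t, ht⟩ := hn.conj_mem _ (show ν c ∈ ι.range from ⟨_, rfl⟩) g
      rw [← ht]
      refine hcent t (hι ?_)
      rw [map_mul, map_mul, ht, show ι (π (u 1)) = x from rfl]
      have hc : ν c * (g⁻¹ * x * g) = (g⁻¹ * x * g) * ν c := by
        rw [show g⁻¹ * x * g = x ^ n by rw [show x ^ n = g⁻¹ * x * g⁻¹⁻¹ from hn', inv_inv], hx, ← map_zpow,
          ← map_mul, ← map_mul, mul_comm]
      calc g * ν c * g⁻¹ * x = g * (ν c * (g⁻¹ * x * g)) * g⁻¹ := by group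
        _ = x * (g * ν c * g⁻¹) := by rw [hc]; group
    refine mem_normalizer_iff_map_conj_eq.2 (Subgroup.eq_of_le_of_card_ge ?_
      (le_of_eq (Subgroup.card_map_of_injective (MulAut.conj g).injective).symm))
    rintro _ ⟨_, ⟨c, rfl⟩, rfl⟩
    exact hconj c
  have hν1 : ν.range ≠ ⊥ := fun e => hxne ((Subgroup.eq_bot_iff_forall _).1 e _ ⟨_, rfl⟩)
  have heq := h.normalizer_eq_top_case (by rwa [ne_eq, zpowers_eq_bot]) (small_of_isPGroup (hνp.to_le (zpowers_le.2 ⟨_, rfl⟩)))
    hν1 (small_of_isPGroup hνp) hle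
  have hsq : ∀ a : F, a ≠ 0 → ∃ k : ℤ, (k : F) = a * a := by
    intro a ha
    let d : SL := ⟨!![a, 0; 0, a⁻¹], by simp [Matrix.det_fin_two, mul_inv_cancel₀ ha]⟩
    have hdu : ∀ c, d * u c * d⁻¹ = u (a * a * c) := fun c => mul_inv_eq_iff_eq_mul.2 (Subtype.ext (by
      show !![a, 0; 0, a⁻¹] * !![1, c; 0, 1] = !![1, a * a * c; 0, 1] * !![a, 0; 0, a⁻¹]
      rw [Matrix.mul_fin_two, Matrix.mul_fin_two]
      ext i j; fin_cases i <;> fin_cases j <;> simp
      field_simp))
    have hd : ι (π d) ∈ normalizer (ν.range : Set X) := by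
      refine mem_normalizer_iff_map_conj_eq.2 (Subgroup.eq_of_le_of_card_ge ?_
        (le_of_eq (Subgroup.card_map_of_injective (MulAut.conj (ι (π d))).injective).symm))
      rintro _ ⟨_, ⟨c, rfl⟩, rfl⟩
      refine ⟨Multiplicative.ofAdd (a * a * Multiplicative.toAdd c), ?_⟩
      show ι (π (u (a * a * Multiplicative.toAdd c))) = ι (π d) * ι (π (u (Multiplicative.toAdd c))) * (ι (π d))⁻¹
      rw [← hdu, map_mul, map_mul, map_mul, map_mul, map_inv, map_inv]
    rw [← heq] at hd
    obtain ⟨k, hk⟩ := (mem_normalizer_iff.1 hd x).1 (mem_zpowers x)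
    refine ⟨k, ?_⟩
    have e : ι (π (u (k : F))) = ι (π (u (a * a * 1))) := by
      have e1 : x ^ k = ι (π (u (k : F))) := by
        rw [hx, ← map_zpow]
        show ι (π (u (Multiplicative.toAdd (Multiplicative.ofAdd (1 : F) ^ k)))) = _
        rw [toAdd_zpow, toAdd_ofAdd, zsmul_one]
      rw [← e1, ← hdu, map_mul, map_mul, map_mul, map_mul, map_inv, map_inv]
      exact hk
    obtain ⟨r, -, hZ⟩ := hz (QuotientGroup.eq.1 (hι e))
    have e' : u (a * a * 1) = u (k : F) * ((u (k : F))⁻¹ * u (a * a * 1)) := (mul_inv_cancel_left _ _).symm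
    have e'' : (u (a * a * 1)).1 = (u (k : F)).1 * !![r, 0; 0, r] := by
      rw [← hZ, ← Matrix.SpecialLinearGroup.coe_mul, ← e']
    have h00 := congrFun₂ e'' 0 0
    have h01 := congrFun₂ e'' 0 1
    simp [u, Matrix.mul_apply, Fin.sum_univ_two] at h00 h01
    rw [← h00, mul_one] at h01
    exact h01.symm
  have hsq' : ∀ a : F, ∃ k : ℤ, (k : F) = a * a := fun a => by
    rcases eq_or_ne a 0 with rfl | ha
    · exact ⟨0, by simp⟩
    · exact hsq a ha
  have hsurj : Function.Surjective (ZMod.castHom (dvd_refl p) F) := fun c => by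
    obtain ⟨a, b, hab⟩ := FiniteField.exists_root_sum_quadratic (f := (Polynomial.X : Polynomial F) ^ 2)
      (g := Polynomial.X ^ 2 - Polynomial.C c) (Polynomial.degree_X_pow 2) (Polynomial.degree_X_pow_sub_C two_pos c)
      (FiniteField.odd_card_of_char_ne_two fun h' => h2 (by
        haveI := ringChar.charP F
        have := CharP.cast_eq_zero F (ringChar F)
        rw [h'] at this
        exact_mod_cast this))
    simp only [Polynomial.eval_pow, Polynomial.eval_X, Polynomial.eval_sub, Polynomial.eval_C] at hab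
    obtain ⟨i, hi⟩ := hsq' a
    obtain ⟨j, hj⟩ := hsq' b
    refine ⟨(i + j : ℤ), ?_⟩
    rw [map_intCast, Int.cast_add, hi, hj, ← pow_two, ← pow_two]
    linear_combination hab
  have := Fintype.card_le_of_surjective _ hsurj
  rw [ZMod.card] at this
  exact le_antisymm this (by
    obtain ⟨k, hp, hk⟩ := FiniteField.card F p
    rw [hk]; exact Nat.le_self_pow k.ne_zero p)

/-- The case of a normal subgroup isomorphic to `PSL(2, q)`. -/
theorem psl_case (h : MaxN X) (hV : ∀ V : Subgroup X, IsKleinFour V → centralizer (V : Set X) = V)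
    (T : Subgroup X) [T.Normal] {F : Type*} [Field F] [Fintype F] (hodd : Odd (Fintype.card F))
    (h3 : 3 < Fintype.card F) (e : T ≃* ProjectiveSpecialLinearGroup (Fin 2) F) :
    Nonempty (X ≃* ProjectiveSpecialLinearGroup (Fin 2) (ZMod 13)) := by
  classical
  obtain ⟨p, hchar⟩ := CharP.exists F
  haveI hp : Fact p.Prime := ⟨CharP.char_is_prime F p⟩
  have h2 := Classical.two_ne_zero_of_odd_card hodd
  let ι : ProjectiveSpecialLinearGroup (Fin 2) F →* X := T.subtype.comp e.symm.toMonoidHom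
  have hι : Function.Injective ι := T.subtype_injective.comp e.symm.injective
  have hιT : ι.range = T := by
    rw [MonoidHom.range_comp, MonoidHom.range_eq_top.2 e.symm.surjective, ← MonoidHom.range_eq_map, range_subtype]
  have hq : Fintype.card F = p := card_eq_prime h p h2 ι hι (hιT.symm ▸ inferInstance)
  rw [hq] at hodd h3
  -- only four primes remain
  have h4 : p = 5 ∨ p = 7 ∨ p = 11 ∨ p = 13 := by
    have hp5 : p = 5 ∨ 7 ≤ p := by
      have : ¬ p = 6 := fun e => by rw [e] at hodd; exact absurd hodd (by decide)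
      have : ¬ p = 4 := fun e => by rw [e] at hodd; exact absurd hodd (by decide)
      omega
    rcases hp5 with h5 | h7
    · exact Or.inl h5
    by_contra hne
    push Not at hne
    obtain ⟨k, hk⟩ := hodd
    have hk3 : ¬ 3 ∣ p := fun hd => by
      have := (Nat.prime_dvd_prime_iff_eq Nat.prime_three hp.out).1 hd
      omega
    have h9 : p ≠ 9 := fun e => hk3 (by rw [e]; norm_num)
    have hg : Nat.gcd 2 (p - 1) = 2 := Nat.gcd_eq_left (by omega)
    have hk1 : k % 3 ≠ 1 := fun e => hk3 (Nat.dvd_of_mod_eq_zero (by omega))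
    rcases (show 3 ∣ k ∨ 3 ∣ k + 1 by omega) with hd | hd
    · obtain ⟨H, -, ⟨f⟩⟩ := Cfsg.Agent.S0812.result (F := F) (q := p) hq
        (by simp only [Finset.mem_insert, Finset.mem_singleton]; omega)
      rw [hg, show (p - 1) / 2 = k by omega] at f
      haveI : NeZero k := ⟨by omega⟩
      have := dihedral_dvd_six h hd ((ι.comp H.subtype).comp f.symm.toMonoidHom)
        ((hι.comp H.subtype_injective).comp f.symm.injective)
      have := Nat.le_of_dvd (by norm_num) this
      omega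
    · obtain ⟨H, -, ⟨f⟩⟩ := Cfsg.Agent.S0811.result (F := F) (q := p) hq
        (by simp only [Finset.mem_insert, Finset.mem_singleton]; omega)
      rw [hg, show (p + 1) / 2 = k + 1 by omega] at f
      have := dihedral_dvd_six h hd ((ι.comp H.subtype).comp f.symm.toMonoidHom)
        ((hι.comp H.subtype_injective).comp f.symm.injective)
      have := Nat.le_of_dvd (by norm_num) this
      omega
  have hcard : 2 * Nat.card T = p * ((p - 1) * (p + 1)) := by
    have := Classical.card_psl2 (F := F)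
    rwa [hq, show Nat.gcd 2 (p - 1) = 2 from Nat.gcd_eq_left (by rcases h4 with h | h | h | h <;> omega),
      ← Nat.card_congr e.toEquiv] at this
  obtain ⟨H, ⟨f⟩⟩ := (Cfsg.Agent.S0802.result (F := F) p 1 (by rw [hq, pow_one])).2 (fun hh => by omega)
  obtain ⟨V, y, hK, hrN, hVr, hyr, hy, hym⟩ := a4_data ((ι.comp H.subtype).comp f.symm.toMonoidHom)
    ((hι.comp H.subtype_injective).comp f.symm.injective)
  have hrT : ((ι.comp H.subtype).comp f.symm.toMonoidHom).range ≤ T := fun _ ⟨a, ha⟩ => hιT.le ⟨_, ha⟩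
  haveI := hK
  have hc := hV V hK
  have hV4 : Nat.card V = 4 := hK.card_four
  have hVne : V ≠ ⊥ := fun e => by rw [e, card_bot] at hV4; norm_num at hV4
  haveI : Fact (Nat.Prime 2) := ⟨Nat.prime_two⟩
  have hsV : Small V := small_of_isPGroup (IsPGroup.of_card (p := 2) (n := 2) (by rw [hV4]; norm_num))
  obtain ⟨z, hz⟩ := exists_prime_orderOf_dvd_card' (G := V) 2 (by rw [hV4]; norm_num)
  rw [← Subgroup.orderOf_coe] at hz
  have hz1 : (z : X) ≠ 1 := fun e => by rw [e, orderOf_one] at hz; norm_num at hz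
  have hyN : y ∈ normalizer (V : Set X) := hrN hyr
  have hyT : y ∈ T := hrT hyr
  have hVT : V ≤ T := hVr.trans hrT
  -- the centraliser of the involution
  set Z := centralizer ({(z : X)} : Set X)
  have hVZ : V ≤ Z := fun v hv => mem_centralizer_singleton_iff.2 (mem_centralizer_iff.1 (hc.ge hv) _ z.2).symm
  have hyZ : y ∉ Z := fun hh => hym _ z.2 hz1 (by rw [mem_centralizer_singleton_iff.1 hh, mul_inv_cancel_right])
  have hZT : Nat.card (Z ⊓ T : Subgroup X) = GW.invCard p := by
    obtain ⟨t, ht⟩ := hιT.ge (hVT z.2)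
    have ht2 : orderOf t = 2 := by rw [← orderOf_injective ι hι, ht, hz]
    rw [← hq, ← GW.card_cent_psl (F := F) (hq.symm ▸ hodd) t ht2,
      Nat.card_congr ((centralizer ({t} : Set (ProjectiveSpecialLinearGroup (Fin 2) F))).equivMapOfInjective ι hι).toEquiv]
    congr 2
    ext g
    constructor
    · rintro ⟨hgZ, hgT⟩
      obtain ⟨u, rfl⟩ := hιT.ge hgT
      refine ⟨u, mem_centralizer_singleton_iff.2 (hι ?_), rfl⟩
      rw [map_mul, map_mul, ht]
      exact mem_centralizer_singleton_iff.1 hgZ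
    · rintro ⟨u, hu, rfl⟩
      refine ⟨mem_centralizer_singleton_iff.2 ?_, hιT.le ⟨u, rfl⟩⟩
      rw [← ht, ← map_mul, ← map_mul, mem_centralizer_singleton_iff.1 hu]
  have hNZ : normalizer (zpowers (z : X) : Set X) = Z := by
    ext g
    rw [mem_centralizer_singleton_iff]
    have h2z : ∀ w ∈ zpowers (z : X), w = 1 ∨ w = z := by
      rintro w ⟨k, rfl⟩
      show (z : X) ^ k = 1 ∨ (z : X) ^ k = z
      rw [← zpow_mod_orderOf, hz]
      rcases Int.emod_two_eq_zero_or_one k with e | e
      · left; rw [show k % ((2 : ℕ) : ℤ) = 0 from e, zpow_zero]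
      · right; rw [show k % ((2 : ℕ) : ℤ) = 1 from e, zpow_one]
    constructor
    · intro hg
      rcases h2z _ ((mem_normalizer_iff.1 hg _).1 (mem_zpowers _)) with e | e
      · exact absurd (conj_eq_one_iff.1 e) hz1
      · exact mul_inv_eq_iff_eq_mul.1 e
    · intro hg
      refine mem_normalizer_iff.2 fun w => ⟨fun hw => ?_, fun hw => ?_⟩
      · rcases h2z w hw with rfl | rfl
        · simp
        · rw [hg, mul_inv_cancel_right]; exact mem_zpowers _
      · rcases h2z _ hw with e | e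
        · rw [conj_eq_one_iff.1 e]; exact one_mem _
        · have : w = (z : X) := by
            have h1 : g * w * g⁻¹ = g * z * g⁻¹ := by rw [e, hg, mul_inv_cancel_right]
            exact mul_left_cancel (mul_right_cancel h1)
          rw [this]; exact mem_zpowers _
  have hsz : Small (zpowers (z : X)) := small_of_isPGroup (IsPGroup.of_card (p := 2) (n := 1) (by
    rw [Nat.card_zpowers, hz]; norm_num))
  have hend : T = ⊤ → ¬ Z ⊓ T ≤ normalizer (V : Set X) := fun hT hle => by
    rw [hT, inf_top_eq, ← hNZ] at hle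
    have := h.normalizer_eq_top_case (by rw [ne_eq, zpowers_eq_bot]; exact hz1) hsz hVne hsV hle
    exact hyZ (hNZ ▸ this ▸ hyN)
  rcases h4 with rfl | rfl | rfl | rfl
  · -- `p = 5`
    exfalso
    have hT := eq_top_of_sylow_four h (fun hd => by omega) hK hc hVT hyT hy hyN hym
    refine hend hT ?_
    rw [← Subgroup.eq_of_le_of_card_ge (le_inf hVZ hVT) (by rw [hZT, hV4]; rfl)]
    exact le_normalizer
  · -- `p = 7`
    exfalso
    set N := normalizer (V : Set X)
    have hle : Z ⊓ T ≤ N := by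
      have hi : (V.subgroupOf (Z ⊓ T)).index = 2 := by
        have := Subgroup.card_mul_index (V.subgroupOf (Z ⊓ T))
        rw [Nat.card_congr (subgroupOfEquivOfLe (le_inf hVZ hVT)).toEquiv, hV4, hZT,
          show GW.invCard 7 = 8 from rfl] at this
        omega
      haveI := Subgroup.normal_of_index_eq_two hi
      exact (normal_subgroupOf_iff_le_normalizer (le_inf hVZ hVT)).1 inferInstance
    have h24 : 24 ∣ Nat.card (N ⊓ T : Subgroup X) := by
      have h1 : 3 ∣ Nat.card (N ⊓ T : Subgroup X) :=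
        hy ▸ Subgroup.orderOf_coe (⟨y, hyN, hyT⟩ : (N ⊓ T : Subgroup X)) ▸ orderOf_dvd_natCard _
      have h8 : 8 ∣ Nat.card (N ⊓ T : Subgroup X) := by
        have := card_dvd_of_le (le_inf hle inf_le_right)
        rwa [hZT] at this
      exact Nat.Coprime.mul_dvd_of_dvd_of_dvd (by norm_num : Nat.Coprime 3 8) h1 h8
    have hNT : N ≤ T := by
      have := Subgroup.eq_of_le_of_card_ge (inf_le_left : N ⊓ T ≤ N)
        ((card_normalizer_le hK hc).trans (Nat.le_of_dvd Nat.card_pos h24))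
      exact this ▸ inf_le_right
    have hT : T = ⊤ := (h V hVne hsV).2 T (lt_of_le_of_ne hNT fun e => by
      have := card_normalizer_le hK hc
      rw [e] at this
      omega)
    exact hend hT hle
  · -- `p = 11`
    exfalso
    have hT := eq_top_of_sylow_four h (fun hd => by omega) hK hc hVT hyT hy hyN hym
    obtain ⟨A, ⟨g⟩⟩ := (Cfsg.Agent.S0804.result (F := F) (q := 11) hq).2 (by norm_num)
    obtain ⟨j, hj⟩ := Perm.Dickson.exists_a4_to_a5
    let ψ := (ι.comp A.subtype).comp g.symm.toMonoidHom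
    have hψ : Function.Injective ψ := (hι.comp A.subtype_injective).comp g.symm.injective
    obtain ⟨W, w, hW, hWN, -⟩ := a4_data (ψ.comp j) (hψ.comp hj)
    haveI := hW
    have hW4 : Nat.card W = 4 := hW.card_four
    have h12 : Nat.card (ψ.comp j).range = 12 := by
      rw [← Nat.card_congr (MonoidHom.ofInjective (f := ψ.comp j) (hψ.comp hj)).toEquiv, Nat.card_eq_fintype_card]
      rfl
    have h60 : Nat.card ψ.range = 60 := by
      rw [← Nat.card_congr (MonoidHom.ofInjective hψ).toEquiv, Nat.card_eq_fintype_card]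
      rfl
    have hX : 2 * Nat.card X = 1320 := by rw [← Subgroup.card_top (G := X), ← hT, hcard]
    set N := normalizer (W : Set X)
    have h24 : Nat.card N ≤ 24 := card_normalizer_le hW (hV W hW)
    have hd : Nat.card N ∣ Nat.card X := N.card_subgroup_dvd_card
    obtain ⟨k, hk⟩ : 12 ∣ Nat.card N := h12 ▸ card_dvd_of_le hWN
    have heq : (ψ.comp j).range = N := Subgroup.eq_of_le_of_card_ge hWN (by
      rw [h12]
      rw [show Nat.card X = 660 by omega] at hd
      have : k = 1 ∨ k = 2 := by have := Nat.card_pos (α := N); omega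
      rcases this with rfl | rfl
      · omega
      · rw [hk] at hd; norm_num at hd)
    have hlt : N < ψ.range := lt_of_le_of_ne (heq ▸ MonoidHom.range_comp ψ j ▸ map_le_range ψ _) fun e => by
      rw [← e, ← heq, h12] at h60
      omega
    have hWne : W ≠ ⊥ := fun e => by rw [e, card_bot] at hW4; norm_num at hW4
    have := (h W hWne (small_of_isPGroup (IsPGroup.of_card (p := 2) (n := 2) (by rw [hW4]; norm_num)))).2 _ hlt
    rw [this, Subgroup.card_top] at h60
    omega
  · -- `p = 13`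
    have hT := eq_top_of_sylow_four h (fun hd => by omega) hK hc hVT hyT hy hyN hym
    exact ⟨((Subgroup.topEquiv.symm.trans (MulEquiv.subgroupCongr hT.symm)).trans e).trans
      (pslEquiv (ZMod.ringEquivOfPrime F (Fact.out : Nat.Prime 13) hq).symm)⟩

end CfsgLib.FGThirteen
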