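import Cfsg.Agent.Lib.FGThirteen.Basic
import Cfsg.Agent.Lib.Coprime.Hall

/-!
# The quotient by the solvable radical
-/

set_option autoImplicit false

namespace CfsgLib.FGThirteen

open Subgroup

variable {G : Type*} [Group G] [Finite G]

/-- The quotient by the solvable radical has maximal normalisers. -/
theorem maxN_quotient (h : SubMax G) {R : Subgroup G} [R.Normal] (hR : Group.IsSolvable R)
    (hmax : ∀ N : Subgroup G, N.Normal → Group.IsSolvable N → N ≤ R) : MaxN (G ⧸ R) := by
  classical
  haveI := hR
  intro B hB hBs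
  obtain ⟨p, q, hp, hq, hpq⟩ := hBs
  set f := QuotientGroup.mk' R with hf
  have hsurj : Function.Surjective f := QuotientGroup.mk'_surjective R
  set L := B.comap f with hLdef
  have hLsol : Group.IsSolvable L := by
    haveI : Group.IsSolvable B := Small.solvable ⟨p, q, hp, hq, hpq⟩
    let g : L →* B := f.subgroupComap B
    let i : R →* L := inclusion (by
      intro x hx
      have h1 : f x = 1 := (QuotientGroup.eq_one_iff x).2 hx
      show f x ∈ B
      rw [h1]
      exact one_mem B)
    refine Group.isSolvable_of_ker_le_range i g fun x hx => ?_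
    have hx' : f x.1 = 1 := congrArg Subtype.val hx
    exact ⟨⟨x.1, (QuotientGroup.eq_one_iff x.1).1 hx'⟩, rfl⟩
  obtain ⟨H, hHL, hHπ, hHi⟩ := Coprime.exists_hallIn ({p, q} : Set ℕ) hLsol
  have hsmall : Small H := ⟨p, q, hp, hq, fun r hr hd => hHπ r hr hd⟩
  have hle : H.map f ≤ B := map_le_iff_le_comap.2 hHL
  have hLB : L.map f = B := map_comap_eq_self_of_surjective hsurj B
  have heq : H.map f = B := by
    refine le_antisymm hle (relIndex_eq_one.1 (Nat.eq_one_of_dvd_one ?_))
    have hd1 : (H.map f).relIndex B ∣ H.relIndex L := by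
      rw [← hLB, relIndex_map_map]
      refine dvd_trans (dvd_of_eq ?_) (relIndex_dvd_of_le_left _ (le_sup_left (b := f.ker)))
      rw [sup_eq_left.2 (show f.ker ≤ L from fun x hx => by
        show f x ∈ B
        rw [MonoidHom.mem_ker.1 hx]; exact one_mem B)]
    have hd2 : (H.map f).relIndex B ∣ Nat.card B := relIndex_dvd_card _ _
    by_contra hne
    obtain ⟨r, hr, hrd⟩ := Nat.exists_prime_and_dvd (fun e => hne (dvd_of_eq e))
    exact hHi r hr (hrd.trans hd1) (hpq r hr (hrd.trans hd2))
  have hHR : ¬ H ≤ R := fun hle' => hB (by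
    rw [← heq, Subgroup.map_eq_bot_iff, QuotientGroup.ker_mk']
    exact hle')
  have e := normalizer_eq_comap h hR hmax hsmall hHR
  have hns : ¬ H.IsSubnormal := fun hs => hHR (le_of_subnormal hmax hs H le_rfl le_normalizer hsmall.solvable)
  have hc := h H hns hsmall
  rw [e, heq] at hc
  refine ⟨fun ht => hc.1 (by rw [ht, comap_top]), fun K hK => ?_⟩
  exact comap_injective hsurj ((hc.2 _ ((comap_lt_comap_of_surjective hsurj).2 hK)).trans (comap_top f).symm)

/-- A group with trivial solvable radical. -/
theorem MaxN.normal_eq_bot {X : Type*} [Group X] (h : MaxN X) {N : Subgroup X} (hn : N.Normal) (hs : Small N) :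
    N = ⊥ := by
  by_contra hb
  exact (h N hb hs).1 (normalizer_eq_top_iff.2 hn)

end CfsgLib.FGThirteen
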