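import Cfsg.Agent.Lib.FGThirteen.EvenSylow
import Cfsg.Agent.Lib.GW.Final
import Cfsg.Agent.Lib.GW.Dih
import Cfsg.Agent.Lib.Invol.QDTransfer
import Cfsg.Agent.Lib.Perm.FixityFour.TwoMain
import Cfsg.Agent.Lib.Spor.Mults.Stem
import Cfsg.Agent.S1190

/-!
# The minimal normal subgroup is `PSL(2, q)`
-/

set_option autoImplicit false

namespace CfsgLib.FGThirteen

open Subgroup

universe u

variable {X : Type u} [Group X] [Finite X]

theorem isSolvable_bot : Group.IsSolvable (⊥ : Subgroup X) :=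
  Group.isSolvable_of_surjective (f := (1 : Multiplicative ℤ →* (⊥ : Subgroup X)))
    fun _ => ⟨1, Subsingleton.elim _ _⟩

theorem Ctx.solvable_subnormal (c : Ctx X) {K : Subgroup X} (hK : K.IsSubnormal) {N : Subgroup X} (hNK : N ≤ K)
    (hKN : K ≤ normalizer (N : Set X)) (hs : Group.IsSolvable N) : N = ⊥ :=
  le_bot_iff.1 (le_of_subnormal (fun M hM hMs => (c.rad M hM hMs).le) hK N hNK hKN hs)

/-- A nontrivial subgroup does not commute with a nontrivial subnormal one. -/
theorem Ctx.false_of_commuting (c : Ctx X) {A B : Subgroup X} (hB : B.IsSubnormal) (hA : A ≠ ⊥) (hBne : B ≠ ⊥)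
    (hc : ∀ a ∈ A, ∀ b ∈ B, Commute a b) : False := by
  haveI : Nontrivial A := A.nontrivial_iff_ne_bot.2 hA
  obtain ⟨p, hp, hpd⟩ := Nat.exists_prime_and_dvd (n := Nat.card A) (ne_of_gt Finite.one_lt_card)
  haveI := Fact.mk hp
  obtain ⟨⟨a, haA⟩, ha⟩ := exists_prime_orderOf_dvd_card' (G := A) p hpd
  rw [Subgroup.orderOf_mk] at ha
  obtain ⟨q, hq, hqd, hqp⟩ : ∃ q : ℕ, q.Prime ∧ q ∣ Nat.card B ∧ q ≠ p := by
    by_contra hno
    push Not at hno
    exact hBne (c.solvable_subnormal hB le_rfl le_normalizer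
      (Small.solvable ⟨p, p, hp, hp, fun r hr hd => Or.inl (hno r hr hd)⟩))
  haveI := Fact.mk hq
  obtain ⟨⟨b, hbB⟩, hb⟩ := exists_prime_orderOf_dvd_card' (G := B) q hqd
  rw [Subgroup.orderOf_mk] at hb
  have ha1 : a ≠ 1 := fun e => by rw [e, orderOf_one] at ha; exact hp.ne_one ha.symm
  have hb1 : b ≠ 1 := fun e => by rw [e, orderOf_one] at hb; exact hq.ne_one hb.symm
  have hN := c.maxN.normalizer_zpowers_eq (a := 1) (b := 1) hp hq (Ne.symm hqp) (by rw [ha, pow_one])
    (by rw [hb, pow_one]) ha1 hb1 (hc a haA b hbB)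
  refine hb1 (zpowers_eq_bot.1 (c.solvable_subnormal hB (zpowers_le.2 hbB) (fun x hx => ?_)
    (Small.solvable (small_zpowers_prime_pow (a := 1) hq (by rw [hb, pow_one])))))
  rw [← hN, mem_normalizer_zpowers, show x * a * x⁻¹ = a by rw [← (hc a haA x hx).eq, mul_inv_cancel_right]]
  exact mem_zpowers a

/-- The simple socle. -/
theorem Ctx.exists_socle (c : Ctx X) : ∃ T : Subgroup X, ∃ _ : T.Normal, IsSimpleGroup T ∧
    ¬ IsMulCommutative T ∧ centralizer (T : Set X) = ⊥ := by
  classical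
  haveI := c.nontriv
  haveI := Fintype.ofFinite (Subgroup X)
  obtain ⟨T, hT, hTmin⟩ := Finset.exists_min_image
    (Finset.univ.filter fun N : Subgroup X => N.Normal ∧ N ≠ ⊥) (fun N => Nat.card N)
    ⟨⊤, Finset.mem_filter.2 ⟨Finset.mem_univ _, inferInstance, (bot_ne_top (α := Subgroup X)).symm⟩⟩
  obtain ⟨-, hTn, hTne⟩ := Finset.mem_filter.1 hT
  haveI := hTn
  haveI : Nontrivial T := T.nontrivial_iff_ne_bot.2 hTne
  have hCT : centralizer (T : Set X) = ⊥ := by
    by_contra hne
    exact c.false_of_commuting hTn.isSubnormal hne hTne fun a ha b hb => ((mem_centralizer_iff.1 ha) b hb).symm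
  refine ⟨T, hTn, ⟨fun K hK => ?_⟩, fun hab => ?_, hCT⟩
  · by_contra hcon
    push Not at hcon
    haveI := Fintype.ofFinite (Subgroup T)
    obtain ⟨K, hKm, hKmin⟩ := Finset.exists_min_image
      (Finset.univ.filter fun N : Subgroup T => N.Normal ∧ N ≠ ⊥) (fun N => Nat.card N)
      ⟨K, Finset.mem_filter.2 ⟨Finset.mem_univ _, hK, hcon.1⟩⟩
    obtain ⟨-, hKn, hKne⟩ := Finset.mem_filter.1 hKm
    have hKlt : Nat.card K < Nat.card T := by
      obtain ⟨K', hK', hK'2⟩ : ∃ K' : Subgroup T, (K'.Normal ∧ K' ≠ ⊥) ∧ Nat.card K' < Nat.card T := by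
        refine ⟨_, ⟨‹_›, hcon.1⟩, lt_of_le_of_ne (card_le_card_group _) fun e => hcon.2 ((card_eq_iff_eq_top _).1 e)⟩
      exact lt_of_le_of_lt (hKmin K' (Finset.mem_filter.2 ⟨Finset.mem_univ _, hK'⟩)) hK'2
    set L := K.map T.subtype with hL
    have hLT : L ≤ T := map_subtype_le _
    have hLsub : (L.subgroupOf T) = K := comap_map_eq_self_of_injective T.subtype_injective K
    have hLsn : L.IsSubnormal := Subgroup.IsSubnormal.step _ _ hLT hTn.isSubnormal (by rw [hLsub]; exact hKn)
    have hLne : L ≠ ⊥ := fun e => hKne ((map_eq_bot_iff_of_injective _ T.subtype_injective).1 e)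
    obtain ⟨g, hg⟩ : ∃ g : X, ∃ x ∈ L, g * x * g⁻¹ ∉ L := by
      by_contra hno
      push Not at hno
      have hn : L.Normal := ⟨fun x hx g => hno g x hx⟩
      have := hTmin L (Finset.mem_filter.2 ⟨Finset.mem_univ _, hn, hLne⟩)
      rw [hL, card_map_of_injective T.subtype_injective] at this
      omega
    let φ : MulAut T := MulAut.conjNormal g
    set K' := K.map φ.toMonoidHom with hK'
    haveI : K'.Normal := hKn.map _ φ.surjective
    have hinf : K ⊓ K' = ⊥ := by
      by_contra hne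
      have hn : (K ⊓ K').Normal := inferInstance
      have h1 := hKmin _ (Finset.mem_filter.2 ⟨Finset.mem_univ _, hn, hne⟩)
      have h2 : K ⊓ K' = K := eq_of_le_of_card_ge inf_le_left h1
      have h3 : K ≤ K' := h2 ▸ inf_le_right
      have h4 : K = K' := eq_of_le_of_card_ge h3 (card_map_of_injective (f := φ.toMonoidHom) φ.injective).le
      obtain ⟨x, ⟨x', hx', rfl⟩, hgx⟩ := hg
      refine hgx ⟨φ x', h4 ▸ ⟨x', hx', rfl⟩, ?_⟩
      simp [φ]
    refine c.false_of_commuting hLsn (A := K'.map T.subtype) ?_ hLne ?_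
    · intro e
      have h1 := (map_eq_bot_iff_of_injective _ T.subtype_injective).1 e
      exact hKne ((map_eq_bot_iff_of_injective _ φ.injective).1 h1)
    · rintro _ ⟨a, ha, rfl⟩ _ ⟨b, hb, rfl⟩
      exact (Subgroup.commute_of_normal_of_disjoint K' K inferInstance hKn
        (disjoint_iff.2 (by rw [inf_comm]; exact hinf)) a b ha hb).map T.subtype
  · haveI := hab
    refine hTne (le_bot_iff.1 ?_)
    rw [← hCT]
    exact fun x hx => mem_centralizer_iff.2 fun y hy => congrArg Subtype.val (mul_comm' (⟨y, hy⟩ : T) ⟨x, hx⟩)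

theorem dihLE_of_sylow (h : ∀ S : Sylow 2 X, ∃ n : ℕ, Nonempty ((S : Subgroup X) ≃* DihedralGroup n)) :
    GW.DihLE X := by
  haveI : Fact (Nat.Prime 2) := ⟨Nat.prime_two⟩
  intro P hP
  obtain ⟨S, hS⟩ := hP.exists_le_sylow
  obtain ⟨n, ⟨e⟩⟩ := h S
  obtain ⟨j, hj⟩ := S.2.exists_card_eq
  rw [Nat.card_congr e.toEquiv, DihedralGroup.nat_card] at hj
  obtain ⟨i, -, rfl⟩ := (Nat.dvd_prime_pow Nat.prime_two).1 ⟨2, show 2 ^ j = n * 2 by omega⟩
  exact ⟨i, e.toMonoidHom.comp (inclusion hS), e.injective.comp (inclusion_injective hS)⟩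

/-- A four group of order four with two central involutions is dihedral. -/
theorem dihedral_of_card_four {S : Subgroup X} (h4 : Nat.card S = 4) {z w : X} (hz : orderOf z = 2)
    (hw : orderOf w = 2) (hzS : z ∈ S) (hwS : w ∈ S) (hne : z ≠ w) : Nonempty (S ≃* DihedralGroup 2) := by
  haveI : IsKleinFour S := by
    refine ⟨h4, ?_⟩
    have hnc : ¬ IsCyclic S := fun hc => by
      obtain ⟨q, hq⟩ := hc.exists_generator
      exact hne (congrArg Subtype.val (CfsgLib.Invol.invol_zpowers_unique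
        ((Subgroup.orderOf_mk z hzS).trans hz) ((Subgroup.orderOf_mk w hwS).trans hw) (hq _) (hq _)))
    exact (not_isCyclic_iff_exponent_eq_prime Nat.prime_two (by rw [h4]; norm_num)).1 hnc
  exact IsKleinFour.nonempty_mulEquiv

/-- Either all 2-subgroups embed in dihedral groups or the Sylow 2-subgroups are semidihedral. -/
theorem Ctx.dihLE_or_qd (c : Ctx X) :
    GW.DihLE X ∨ ∀ S : Sylow 2 X, Cfsg.IsQuasiDihedral (S : Subgroup X) := by
  haveI : Fact (Nat.Prime 2) := ⟨Nat.prime_two⟩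
  by_cases hqd : ∀ S : Sylow 2 X, Cfsg.IsQuasiDihedral (S : Subgroup X)
  · exact Or.inr hqd
  push Not at hqd
  obtain ⟨S, hS⟩ := hqd
  refine Or.inl (dihLE_of_sylow fun P => ?_)
  obtain ⟨a, ha⟩ := MulAction.exists_smul_eq X S P
  obtain ⟨n, ⟨e⟩⟩ : ∃ n : ℕ, Nonempty ((S : Subgroup X) ≃* DihedralGroup n) := by
    rcases c.shape S with h | h | h
    · exact h
    · exact absurd h hS
    · obtain ⟨z, hzS, hz, -⟩ := CIT.exists_central_invol (T := S) (CIT.two_dvd_card_of_nsolv c.not_solvable)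
      obtain ⟨g, hg, hgne⟩ := c.not_weakly_closed S hz hzS
      exact ⟨2, dihedral_of_card_four h hz (orderOf_conj_two hz g) hzS hg (Ne.symm hgne)⟩
  exact ⟨n, ⟨((S.equiv P).symm.trans e)⟩⟩

/-- In a semidihedral group the elements of order four are not fused. -/
theorem Ctx.exists_index_two (c : Ctx X) (S : Sylow 2 X) (hS : Cfsg.IsQuasiDihedral (S : Subgroup X)) :
    ∃ K : Subgroup X, K.Normal ∧ K.index = 2 ∧ GW.DihLE K := by
  classical
  haveI : Fact (Nat.Prime 2) := ⟨Nat.prime_two⟩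
  obtain ⟨k, a, b, -, -, Q⟩ := CfsgLib.Invol.exists_qdFrame hS
  have h4 : ¬ CfsgLib.Invol.FusedFour a b (2 ^ (k - 2)) := by
    rw [Q.fusedFour_iff]
    intro hc
    obtain ⟨g, hg⟩ := isConj_iff.1 hc
    set h : ℤ := 2 ^ (k - 2)
    set z := CfsgLib.Invol.rotG a (2 * h) with hz
    have hzo : orderOf z = 2 := Q.orderOf_centerG
    have hzc : ∀ s ∈ (S : Subgroup X), s * z = z * s := fun s hs => Q.commute_center hs
    have hyy : CfsgLib.Invol.refG a b 1 * CfsgLib.Invol.refG a b 1 = z := Q.sq_refG_odd (by norm_num)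
    have hxx : CfsgLib.Invol.rotG a h * CfsgLib.Invol.rotG a h = z := CfsgLib.Invol.QDFrame.sq_quarter
    set C := centralizer ({z} : Set X)
    have hgC : g ∈ C := mem_centralizer_singleton_iff.2 (mul_inv_eq_iff_eq_mul.1 (by
      conv_lhs => rw [← hyy]
      rw [← hxx, ← hg]
      group))
    have hSC : (S : Subgroup X) ≤ C := fun s hs => mem_centralizer_singleton_iff.2 (hzc s hs)
    set O := Cfsg.pPrimeCore 2 C with hO
    haveI : O.Normal := by
      rw [hO, CfsgLib.Coprime.pPrimeCore_eq_piCore Nat.prime_two]; infer_instance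
    have hOodd : ¬ 2 ∣ Nat.card O := CfsgLib.Coprime.pPrimeCore_not_dvd Nat.prime_two
    have hidx : ∀ d : ℕ, d.Prime → d ∣ O.index → d = 2 := by
      intro d hd hdi
      by_contra hd2
      haveI := Fact.mk hd
      obtain ⟨P⟩ : Nonempty (Sylow d C) := inferInstance
      have hPO : (P : Subgroup C) ≤ O := by
        intro w hw
        obtain ⟨e, he⟩ := (IsPGroup.iff_orderOf.1 P.2) ⟨w, hw⟩
        rw [Subgroup.orderOf_mk] at he
        by_cases hw1 : w = 1
        · rw [hw1]; exact one_mem O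
        have hN := c.maxN.normalizer_zpowers_eq (x := z) (w := (w : X)) (a := 1) Nat.prime_two hd
          (Ne.symm hd2) (by rw [hzo, pow_one]) (by rw [Subgroup.orderOf_coe, he]) (invol_ne_one hzo)
          (fun e1 => hw1 (Subtype.ext e1)) (mem_centralizer_singleton_iff.1 w.2).symm
        rw [normalizer_zpowers_invol hzo] at hN
        haveI : (zpowers w).Normal := ⟨fun x hx n => by
          obtain ⟨m, rfl⟩ := mem_zpowers_iff.1 hx
          obtain ⟨l, hl⟩ := mem_zpowers_iff.1 (mem_normalizer_zpowers.1 (hN ▸ n.2 :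
            (n : X) ∈ normalizer (zpowers (w : X) : Set X)))
          refine mem_zpowers_iff.2 ⟨l * m, ?_⟩
          rw [conj_zpow_eq, zpow_mul]
          congr 1
          exact Subtype.ext (by push_cast; exact hl)⟩
        refine CfsgLib.Coprime.le_pPrimeCore_of_not_dvd Nat.prime_two ?_ (mem_zpowers w)
        rw [Nat.card_zpowers, he]
        exact fun h2 => hd2 ((Nat.prime_dvd_prime_iff_eq Nat.prime_two hd).1 (Nat.prime_two.dvd_of_dvd_pow h2)).symm
      exact P.not_dvd_index (hdi.trans (index_dvd_of_le hPO))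
    have htop : (S : Subgroup X).subgroupOf C ⊔ O = ⊤ := by
      rw [← index_eq_one]
      by_contra hne
      obtain ⟨d, hd, hdd⟩ := Nat.exists_prime_and_dvd hne
      have h1 := hidx d hd (hdd.trans (index_dvd_of_le le_sup_right))
      subst h1
      refine (S.subtype hSC).not_dvd_index (hdd.trans ?_)
      rw [Sylow.coe_subtype]
      exact index_dvd_of_le le_sup_left
    obtain ⟨s, hs, o, ho, hso⟩ := Subgroup.mem_sup_of_normal_right.1 (htop.symm.le (mem_top (⟨g, hgC⟩ : C)))
    set x := CfsgLib.Invol.rotG a h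
    set y := CfsgLib.Invol.refG a b 1
    have hyS : y ∈ (S : Subgroup X) := CfsgLib.Invol.refG_mem a b 1
    have hxS : x ∈ (S : Subgroup X) := CfsgLib.Invol.rotG_mem a h
    set yC : C := ⟨y, hSC hyS⟩
    have hoy : (o : X) * y * (o : X)⁻¹ * y⁻¹ = 1 := by
      have hmem : o * yC * o⁻¹ * yC⁻¹ ∈ O := by
        rw [show o * yC * o⁻¹ * yC⁻¹ = o * (yC * o⁻¹ * yC⁻¹) by group]
        exact mul_mem ho ((inferInstance : O.Normal).conj_mem _ (inv_mem ho) yC)
      have hS' : (o : X) * y * (o : X)⁻¹ * y⁻¹ ∈ (S : Subgroup X) := by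
        have he : (o : X) * y * (o : X)⁻¹ = (s : X)⁻¹ * x * s := by
          have hval : (s : X) * o = g := congrArg Subtype.val hso
          rw [← hg, ← hval]; group
        rw [he]
        exact mul_mem (mul_mem (mul_mem (inv_mem (mem_subgroupOf.1 hs)) hxS) (mem_subgroupOf.1 hs)) (inv_mem hyS)
      obtain ⟨e, he⟩ := (IsPGroup.iff_orderOf.1 S.2) ⟨_, hS'⟩
      rw [Subgroup.orderOf_mk] at he
      have hd : 2 ^ e ∣ Nat.card O := by
        have := O.orderOf_dvd_natCard hmem
        rwa [← Subgroup.orderOf_coe, show ((o * yC * o⁻¹ * yC⁻¹ : C) : X) = (o : X) * y * (o : X)⁻¹ * y⁻¹ from rfl,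
          he] at this
      rcases e with - | e
      · exact orderOf_eq_one_iff.1 he
      · exact absurd ((dvd_pow_self 2 e.succ_ne_zero).trans hd) hOodd
    have hconj : (s : X) * y * (s : X)⁻¹ = x := by
      have hval : (s : X) * o = g := congrArg Subtype.val hso
      rw [← hg, ← hval]
      rw [mul_inv_eq_one] at hoy
      conv_lhs => rw [← hoy]
      group
    obtain ⟨N, -, F⟩ := Q.frame
    haveI : (zpowers a).Normal := Subgroup.normal_of_index_eq_two F.index_two
    set sS : (S : Subgroup X) := ⟨s, mem_subgroupOf.1 hs⟩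
    have hin : a ^ (1 : ℤ) * b ∈ zpowers a := by
      have h1 : sS * (a ^ (1 : ℤ) * b) * sS⁻¹ = a ^ h := Subtype.ext hconj
      have h2 : sS⁻¹ * a ^ h * sS⁻¹⁻¹ ∈ zpowers a := (inferInstance : (zpowers a).Normal).conj_mem _
        (zpow_mem (mem_zpowers a) h) _
      rw [← h1] at h2
      simpa [mul_assoc] using h2
    obtain ⟨m, hm⟩ := mem_zpowers_iff.1 hin
    exact Q.ne_mul m 1 hm
  by_cases h2 : CfsgLib.Invol.FusedTwo a b (2 ^ (k - 2))
  · obtain ⟨K, hK, hK2, hKd, -⟩ := Q.dihedral_case h2 h4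
    exact ⟨K, hK, hK2, dihLE_of_sylow hKd⟩
  · exfalso
    obtain ⟨P, N, hN, hcomp⟩ := Q.nilpotent_case h2 h4
    haveI := hN
    have hidx : N.index = Nat.card (P : Subgroup X) := hcomp.symm.index_eq_card
    have hodd : Odd (Nat.card N) := Nat.odd_iff.2 (Nat.two_dvd_ne_zero.1 fun hd =>
      P.not_dvd_index (by rw [hcomp.index_eq_card]; exact hd))
    haveI : Group.IsSolvable N := CfsgLib.FT.isSolvable_of_odd _ hodd
    haveI : Group.IsSolvable (X ⧸ N) := by
      obtain ⟨j, hj⟩ := P.2.exists_card_eq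
      haveI : Group.IsNilpotent (X ⧸ N) := (IsPGroup.of_card (p := 2) (n := j) (by
        rw [← index_eq_card, hidx, hj])).isNilpotent
      infer_instance
    exact c.not_solvable ((Group.isSolvable_iff_subgroup_quotient N).2 ⟨inferInstance, inferInstance⟩)

/-- The centraliser of a four group. -/
theorem Ctx.centralizer_four (c : Ctx X) {V : Subgroup X} (hV : IsKleinFour V) :
    centralizer (V : Set X) = V := by
  classical
  haveI : Fact (Nat.Prime 2) := ⟨Nat.prime_two⟩
  haveI := hV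
  haveI : Nontrivial V := Finite.one_lt_card_iff_nontrivial.1 (by rw [IsKleinFour.card_four]; norm_num)
  have hsq : ∀ v ∈ V, v * v = 1 := fun v hv => congrArg Subtype.val (IsKleinFour.mul_self (⟨v, hv⟩ : V))
  have hle : V ≤ centralizer (V : Set X) := fun a ha => mem_centralizer_iff.2 fun b hb => by
    have hab := eq_inv_of_mul_eq_one_left (hsq _ (mul_mem hb ha))
    rw [mul_inv_rev, inv_eq_of_mul_eq_one_right (hsq a ha), inv_eq_of_mul_eq_one_right (hsq b hb)] at hab
    exact hab
  refine le_antisymm (fun x hx => ?_) hle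
  obtain ⟨v, hv⟩ := exists_ne (1 : V)
  obtain ⟨w, hw, hwv⟩ : ∃ w : V, w ≠ 1 ∧ w ≠ v := by
    haveI := Fintype.ofFinite V
    obtain ⟨w, hw⟩ := Finset.exists_mem_notMem_of_card_lt_card (s := ({1, v} : Finset V)) (t := Finset.univ)
      (lt_of_le_of_lt Finset.card_le_two (by
        rw [Finset.card_univ, ← Nat.card_eq_fintype_card, IsKleinFour.card_four]; norm_num))
    exact ⟨w, by simpa using hw⟩
  have ho : ∀ u : V, u ≠ 1 → orderOf (u : X) = 2 := fun u hu => (Subgroup.orderOf_coe u).trans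
    (orderOf_eq_prime ((pow_two u).trans (IsKleinFour.mul_self u)) hu)
  have hC2 : IsPGroup 2 (centralizer (V : Set X)) := by
    rw [IsPGroup.iff_orderOf]
    intro y
    refine ⟨(orderOf y).primeFactorsList.length,
      Nat.eq_prime_pow_of_unique_prime_dvd (orderOf_pos y).ne' fun {d} hd hdy => ?_⟩
    by_contra hd2
    rw [← Subgroup.orderOf_coe y] at hdy
    have hc : ∀ u : V, Commute (u : X) ((y : X) ^ (orderOf (y : X) / d)) := fun u =>
      Commute.pow_right (mem_centralizer_iff.1 y.2 u u.2) _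
    exact hwv (Subtype.ext (c.maxN.invol_unique hd hd2 (orderOf_pow_orderOf_div (orderOf_pos (y : X)).ne' hdy)
      (ho w hw) (ho v hv) (hc w) (hc v)))
  rcases c.dihLE_or_qd with hD | hQD
  · set A := V ⊔ zpowers x with hA
    haveI : IsMulCommutative A := by
      have e : A = closure ((V : Set X) ∪ {x}) := by
        rw [Subgroup.closure_union, Subgroup.closure_eq, ← zpowers_eq_closure]
      rw [e]
      refine Subgroup.isMulCommutative_closure fun a ha b hb => ?_
      have hx' : ∀ u ∈ V, u * x = x * u := fun u hu => mem_centralizer_iff.1 hx u hu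
      rcases ha with ha | ha <;> rcases hb with hb | hb
      · exact (mem_centralizer_iff.1 (hle hb) a ha)
      · rw [Set.mem_singleton_iff.1 hb]; exact hx' a ha
      · rw [Set.mem_singleton_iff.1 ha]; exact (hx' b hb).symm
      · rw [Set.mem_singleton_iff.1 ha, Set.mem_singleton_iff.1 hb]
    have hAC : A ≤ centralizer (V : Set X) := sup_le hle (zpowers_le.2 hx)
    have h4 := (hD.abelian_four (hC2.to_le hAC) (fun a ha b hb => congrArg Subtype.val (mul_comm' (⟨a, ha⟩ : A) ⟨b, hb⟩))
      (mem_sup_left v.2) (mem_sup_left w.2) (hsq _ v.2) (hsq _ w.2) (fun e => hv (Subtype.ext e))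
      (fun e => hw (Subtype.ext e)) (fun e => hwv (Subtype.ext e).symm)).2
    rw [eq_of_le_of_card_ge (le_sup_left : V ≤ A) (h4.trans hV.card_four.ge)]
    exact mem_sup_right (mem_zpowers x)
  · obtain ⟨S, hS⟩ := hC2.exists_le_sylow
    have hVS : V ≤ (S : Subgroup X) := hle.trans hS
    set V' := V.subgroupOf (S : Subgroup X)
    have hV' : IsKleinFour V' := ⟨by rw [Nat.card_congr (subgroupOfEquivOfLe hVS).toEquiv, hV.card_four],
      by rw [Monoid.exponent_eq_of_mulEquiv (subgroupOfEquivOfLe hVS), hV.exponent_two]⟩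
    have hmem : (⟨x, hS hx⟩ : (S : Subgroup X)) ∈ centralizer (V' : Set (S : Subgroup X)) :=
      mem_centralizer_iff.2 fun u hu => Subtype.ext (mem_centralizer_iff.1 hx u (mem_subgroupOf.1 hu))
    rw [((Cfsg.Agent.S1190.result (hQD S)).2 V' hV').1] at hmem
    exact mem_subgroupOf.1 hmem

/-- The socle is a two-dimensional projective special linear group of odd characteristic. -/
theorem Ctx.exists_psl (c : Ctx X) : ∃ T : Subgroup X, ∃ _ : T.Normal, centralizer (T : Set X) = ⊥ ∧
    ∃ (F : Type) (_ : Field F) (_ : Fintype F), Odd (Fintype.card F) ∧ 3 < Fintype.card F ∧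
      Nonempty (T ≃* Matrix.ProjectiveSpecialLinearGroup (Fin 2) F) := by
  classical
  haveI : Fact (Nat.Prime 2) := ⟨Nat.prime_two⟩
  obtain ⟨T, hTn, hTs, hTna, hCT⟩ := c.exists_socle
  haveI := hTn
  haveI := hTs
  have hTne : T ≠ ⊥ := fun e => hTna (by subst e; exact ⟨⟨fun a b => Subsingleton.elim _ _⟩⟩)
  have hDT : GW.DihLE T := by
    rcases c.dihLE_or_qd with hD | hQD
    · exact hD.subgroup T
    · obtain ⟨S⟩ : Nonempty (Sylow 2 X) := inferInstance
      obtain ⟨K, hKn, hK2, hKD⟩ := c.exists_index_two S (hQD S)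
      have hTK : T ≤ K := by
        rcases (inferInstance : (K.subgroupOf T).Normal).eq_bot_or_eq_top with e | e
        · exfalso
          have hKT : K ≤ centralizer (T : Set X) := fun k hk => mem_centralizer_iff.2 fun t ht =>
            (Subgroup.commute_of_normal_of_disjoint T K hTn hKn
              (disjoint_iff.2 (by rw [inf_comm]; exact (subgroupOf_eq_bot.1 e).eq_bot)) t k ht hk).eq
          rw [hCT, le_bot_iff] at hKT
          rw [hKT, index_bot] at hK2
          exact c.not_solvable (by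
            haveI : IsCyclic X := isCyclic_of_prime_card hK2
            infer_instance)
        · exact subgroupOf_eq_top.1 e
      exact hKD.of_injective (inclusion hTK) (inclusion_injective hTK)
  have hTeven : 2 ∣ Nat.card T := CIT.two_dvd_card_of_simple hTna
  obtain ⟨t, ht⟩ := exists_prime_orderOf_dvd_card' (G := T) 2 hTeven
  rcases hDT.cyclic_or_dihTwo with ⟨P, hP⟩ | hDih
  · exact absurd hP (CfsgLib.Perm.FixityFour.sylow_two_not_cyclic hTna P ht)
  haveI : Group.IsPerfect T := ⟨CfsgLib.Spor.Mults.commutator_eq_top_of_simple (by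
    by_contra hno
    push Not at hno
    exact hTna ⟨⟨hno⟩⟩)⟩
  have hcore : Cfsg.oddCore T = ⊥ := by
    have hn : (Cfsg.pPrimeCore 2 T).Normal := by
      rw [CfsgLib.Coprime.pPrimeCore_eq_piCore Nat.prime_two]; infer_instance
    rcases hn.eq_bot_or_eq_top with e | e
    · exact e
    · exfalso
      have h := CfsgLib.Coprime.pPrimeCore_not_dvd (G := T) Nat.prime_two
      rw [e, Subgroup.card_top] at h
      exact h hTeven
  have hiso := CfsgLib.GW.IsPSLTwoOrA7.congr
    (((QuotientGroup.quotientMulEquivOfEq hcore).trans QuotientGroup.quotientBot).symm)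
    (CfsgLib.GW.gw_perfect T hDih)
  rcases hiso with h | ⟨⟨e⟩⟩
  · exact ⟨T, hTn, hCT, h⟩
  · exfalso
    have hperm : ∀ p : Equiv.Perm (Fin 7), Equiv.Perm.sign p = 1 → ∃ q : alternatingGroup (Fin 7), q.1 = p :=
      fun p hp => ⟨⟨p, Equiv.Perm.mem_alternatingGroup.2 hp⟩, rfl⟩
    obtain ⟨y, hy⟩ := hperm (Equiv.swap 0 1 * Equiv.swap 1 2) (by decide)
    obtain ⟨f1, hf1⟩ := hperm (Equiv.swap 3 4 * Equiv.swap 5 6) (by decide)
    obtain ⟨f2, hf2⟩ := hperm (Equiv.swap 3 5 * Equiv.swap 4 6) (by decide)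
    let φ : alternatingGroup (Fin 7) →* X := T.subtype.comp e.symm.toMonoidHom
    have hφ : Function.Injective φ := T.subtype_injective.comp e.symm.injective
    have hyo : orderOf (φ y) = 3 := by
      haveI : Fact (Nat.Prime 3) := ⟨Nat.prime_three⟩
      rw [orderOf_injective φ hφ, ← Subgroup.orderOf_coe, hy]
      exact orderOf_eq_prime (by decide) (by decide)
    have hfo : ∀ q : alternatingGroup (Fin 7), q.1 * q.1 = 1 → q.1 ≠ 1 → orderOf (φ q) = 2 := fun q h h' => by
      rw [orderOf_injective φ hφ, ← Subgroup.orderOf_coe]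
      exact orderOf_eq_prime (by rw [pow_two, h]) h'
    have hc : ∀ p q : alternatingGroup (Fin 7), p.1 * q.1 = q.1 * p.1 → Commute (φ p) (φ q) := fun p q h =>
      (show Commute p q from Subtype.ext h).map φ
    have hne := c.maxN.invol_unique Nat.prime_three (by norm_num) hyo
      (hfo f1 (by rw [hf1]; decide) (by rw [hf1]; decide)) (hfo f2 (by rw [hf2]; decide) (by rw [hf2]; decide))
      (hc f1 y (by rw [hf1, hy]; decide)) (hc f2 y (by rw [hf2, hy]; decide))
    have h := congrArg Subtype.val (hφ hne)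
    rw [hf1, hf2] at h
    exact absurd h (by decide)

end CfsgLib.FGThirteen
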