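import Cfsg.Agent.Lib.FGThirteen.Local
import Cfsg.Agent.Lib.Invol.TwoClasses
import Cfsg.Agent.Lib.PGroup.Isolated

/-!
# An odd element centralises at most one involution
-/

set_option autoImplicit false

namespace CfsgLib.FGThirteen

open Subgroup

variable {X : Type*} [Group X] [Finite X]

theorem invol_ne_one {t : X} (ht : orderOf t = 2) : t ≠ 1 := fun e => by
  rw [e, orderOf_one] at ht; omega

theorem invol_sq {t : X} (ht : orderOf t = 2) : t * t = 1 := by
  rw [← pow_two, ← ht, pow_orderOf_eq_one]

theorem MaxN.self_normalizer (h : MaxN X) {t : X} (ht : orderOf t = 2) :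
    normalizer (centralizer ({t} : Set X) : Set X) = centralizer ({t} : Set X) := by
  have hc := h.centralizer_coatom ht
  rcases hc.le_iff.1 (le_normalizer (H := centralizer ({t} : Set X))) with e | e
  · exfalso
    have hn : (centralizer ({t} : Set X)).Normal := normalizer_eq_top_iff.1 e
    set C := centralizer ({t} : Set X) with hC
    let E : Subgroup X :=
      { carrier := {x | x ∈ C ∧ (∀ c ∈ C, x * c = c * x) ∧ x * x = 1}
        one_mem' := ⟨one_mem _, fun c _ => by simp, by simp⟩
        mul_mem' := by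
          rintro a b ⟨ha, ha', ha''⟩ ⟨hb, hb', hb''⟩
          refine ⟨mul_mem ha hb, fun c hc => ?_, ?_⟩
          · rw [mul_assoc, hb' c hc, ← mul_assoc, ha' c hc, mul_assoc]
          · calc a * b * (a * b) = a * (b * a) * b := by group
              _ = 1 := by rw [hb' a ha, ← mul_assoc, ha'', one_mul, hb'']
        inv_mem' := by
          rintro a ⟨ha, ha', ha''⟩
          rw [inv_eq_of_mul_eq_one_right ha'']
          exact ⟨ha, ha', ha''⟩ }
    have hEn : E.Normal := ⟨by
      rintro a ⟨ha, ha', ha''⟩ g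
      refine ⟨hn.conj_mem a ha g, fun c hc => ?_, ?_⟩
      · have e1 := ha' (g⁻¹ * c * g) (by simpa using hn.conj_mem c hc g⁻¹)
        calc g * a * g⁻¹ * c = g * (a * (g⁻¹ * c * g)) * g⁻¹ := by group
          _ = c * (g * a * g⁻¹) := by rw [e1]; group
      · calc g * a * g⁻¹ * (g * a * g⁻¹) = g * (a * a) * g⁻¹ := by group
          _ = 1 := by rw [ha'']; group⟩
    have hEp : IsPGroup 2 E := fun x => ⟨1, Subtype.ext (by
      have := x.2.2.2
      simpa [pow_two] using this)⟩
    have hE := h.normal_eq_bot hEn (Small.of_isPGroup Nat.prime_two hEp)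
    have htE : t ∈ E := ⟨mem_centralizer_singleton_iff.2 rfl,
      fun c hc => (mem_centralizer_singleton_iff.1 hc).symm, invol_sq ht⟩
    rw [hE] at htE
    exact invol_ne_one ht (mem_bot.1 htE)
  · exact e

theorem centralizer_conj (g t : X) {x : X} :
    x ∈ centralizer ({g * t * g⁻¹} : Set X) ↔ g⁻¹ * x * g ∈ centralizer ({t} : Set X) := by
  rw [mem_centralizer_singleton_iff, mem_centralizer_singleton_iff]
  constructor <;> intro h
  · calc g⁻¹ * x * g * t = g⁻¹ * (x * (g * t * g⁻¹)) * g := by group
      _ = t * (g⁻¹ * x * g) := by rw [h]; group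
  · calc x * (g * t * g⁻¹) = g * (g⁻¹ * x * g * t) * g⁻¹ := by group
      _ = g * t * g⁻¹ * x := by rw [h]; group

/-- Conjugation fixing a centraliser lies in it. -/
theorem MaxN.mem_of_centralizer_conj (h : MaxN X) {t g : X} (ht : orderOf t = 2)
    (hg : centralizer ({g * t * g⁻¹} : Set X) = centralizer ({t} : Set X)) :
    g ∈ centralizer ({t} : Set X) := by
  rw [← h.self_normalizer ht, mem_normalizer_iff]
  intro x
  conv_rhs => rw [← hg]
  rw [centralizer_conj]
  simp [mul_assoc]

/-- Two commuting involutions normalise a cyclic subgroup of prime order: one of three centralises. -/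
theorem exists_centralizing {y e f : X} {r : ℕ} (hr : r.Prime) (hy : orderOf y = r)
    (he : e * e = 1) (hf : f * f = 1) (hye : e ∈ normalizer (zpowers y : Set X))
    (hyf : f ∈ normalizer (zpowers y : Set X)) :
    e * y = y * e ∨ f * y = y * f ∨ e * f * y = y * (e * f) := by
  have key : ∀ g : X, g * g = 1 → g ∈ normalizer (zpowers y : Set X) →
      g * y * g⁻¹ = y ∨ g * y * g⁻¹ = y⁻¹ := by
    intro g hg hn
    obtain ⟨k, hk⟩ := mem_zpowers_iff.1 (mem_normalizer_zpowers.1 hn)
    have h2 : y ^ (k * k - 1) = 1 := by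
      rw [zpow_sub, zpow_mul, hk, ← conj_zpow_eq, hk, zpow_one]
      have hgi : g⁻¹ = g := inv_eq_of_mul_eq_one_right hg
      rw [hgi]
      calc g * (g * y * g) * g * y⁻¹ = (g * g) * y * (g * g) * y⁻¹ := by group
        _ = 1 := by rw [hg]; group
    rw [← orderOf_dvd_iff_zpow_eq_one, hy, show k * k - 1 = (k - 1) * (k + 1) by ring] at h2
    rcases (Nat.prime_iff_prime_int.1 hr).dvd_or_dvd h2 with d | d
    · left
      rw [← hy, orderOf_dvd_iff_zpow_eq_one, zpow_sub, zpow_one, mul_inv_eq_one] at d
      rw [← hk, d]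
    · right
      rw [← hy, orderOf_dvd_iff_zpow_eq_one, zpow_add, zpow_one] at d
      rw [← hk]
      exact eq_inv_of_mul_eq_one_left d
  rcases key e he hye with e1 | e1
  · exact Or.inl (mul_inv_eq_iff_eq_mul.1 e1)
  rcases key f hf hyf with f1 | f1
  · exact Or.inr (Or.inl (mul_inv_eq_iff_eq_mul.1 f1))
  refine Or.inr (Or.inr (mul_inv_eq_iff_eq_mul.1 ?_))
  rw [show e * f * y * (e * f)⁻¹ = e * (f * y * f⁻¹) * e⁻¹ by group, f1,
    show e * y⁻¹ * e⁻¹ = (e * y * e⁻¹)⁻¹ by group, e1, inv_inv]

/-- An odd element centralises at most one involution. -/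
theorem MaxN.invol_unique (h : MaxN X) {y e f : X} {r : ℕ} (hr : r.Prime) (hr2 : r ≠ 2) (hy : orderOf y = r)
    (he : orderOf e = 2) (hf : orderOf f = 2) (hey : Commute e y) (hfy : Commute f y) : e = f := by
  by_contra hne
  set M := centralizer ({e} : Set X) with hM
  have hMy : M = normalizer (zpowers y : Set X) := h.centralizer_eq he hr hr2 hy hey
  have hMf : centralizer ({f} : Set X) = M := by rw [h.centralizer_eq hf hr hr2 hy hfy, hMy]
  have hef : Commute e f := by
    have : e ∈ centralizer ({f} : Set X) := by rw [hMf]; exact mem_centralizer_singleton_iff.2 rfl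
    exact mem_centralizer_singleton_iff.1 this
  have hef2 : orderOf (e * f) = 2 := by
    refine orderOf_eq_prime (by rw [pow_two, hef.symm.mul_mul_mul_comm, invol_sq he, invol_sq hf, one_mul]) ?_
    intro e1
    exact hne (by rw [eq_inv_of_mul_eq_one_left e1, inv_eq_of_mul_eq_one_right (invol_sq hf)])
  have hMef : centralizer ({e * f} : Set X) = M := by
    refine (((h.centralizer_coatom he).le_iff_eq (h.centralizer_coatom hef2).1).1 ?_)
    intro x hx
    have h1 : Commute x e := mem_centralizer_singleton_iff.1 hx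
    rw [hM, ← hMf] at *
    have h2 : Commute x f := mem_centralizer_singleton_iff.1 (by rw [hMf]; exact hx)
    exact mem_centralizer_singleton_iff.2 (h1.mul_right h2)
  -- centralisers of the other involutions of `M` have no odd elements
  have claim : ∀ v : X, orderOf v = 2 → v ∈ M → centralizer ({v} : Set X) ≠ M →
      ∀ (s : ℕ) (w : X), s.Prime → s ≠ 2 → orderOf w = s → w ∉ centralizer ({v} : Set X) := by
    intro v hv hvM hvne s w hs hs2 hw hwv
    have hCv := h.centralizer_eq hv hs hs2 hw (mem_centralizer_singleton_iff.1 hwv).symm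
    have hve : Commute v e := mem_centralizer_singleton_iff.1 hvM
    have hvf : Commute v f := mem_centralizer_singleton_iff.1 (show v ∈ centralizer ({f} : Set X) by rw [hMf]; exact hvM)
    have hen : e ∈ normalizer (zpowers w : Set X) := by
      rw [← hCv]; exact mem_centralizer_singleton_iff.2 hve.symm
    have hfn : f ∈ normalizer (zpowers w : Set X) := by
      rw [← hCv]; exact mem_centralizer_singleton_iff.2 hvf.symm
    rcases exists_centralizing hs hw (invol_sq he) (invol_sq hf) hen hfn with c | c | c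
    · exact hvne (by rw [hCv, hM, h.centralizer_eq he hs hs2 hw c])
    · exact hvne (by rw [hCv, ← hMf, h.centralizer_eq hf hs hs2 hw c])
    · exact hvne (by rw [hCv, ← hMef, h.centralizer_eq hef2 hs hs2 hw c])
  have hall : ∀ v : X, orderOf v = 2 → v ∈ M → centralizer ({v} : Set X) = M := by
    intro v hv hvM
    by_contra hvne
    have hp : IsPGroup 2 (centralizer ({v} : Set X)) := by
      rw [IsPGroup.iff_orderOf]
      intro x
      refine ⟨(orderOf x).primeFactorsList.length, Nat.eq_prime_pow_of_unique_prime_dvd (orderOf_pos x).ne' fun {d} hd hdx => ?_⟩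
      by_contra hd2
      refine claim v hv hvM hvne d ((x : X) ^ (orderOf x / d)) hd hd2 ?_ (pow_mem x.2 _)
      rw [← Subgroup.orderOf_coe x] at hdx ⊢
      exact orderOf_pow_orderOf_div (orderOf_pos (x : X)).ne' hdx
    haveI : Fact (Nat.Prime 2) := ⟨Nat.prime_two⟩
    haveI := hp.isNilpotent
    have hnle : ¬ centralizer ({v} : Set X) ≤ centralizer ({v} : Set X) ⊓ M := fun hle =>
      hvne ((((h.centralizer_coatom hv).le_iff_eq (h.centralizer_coatom he).1).1 (hle.trans inf_le_right)).symm)
    obtain ⟨g, hgC, hgN, hg⟩ := Isolated.exists_mem_normalizer_inf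
      (inf_le_left : centralizer ({v} : Set X) ⊓ M ≤ centralizer ({v} : Set X)) hnle
    have hgM : g ∉ M := fun h' => hg ⟨hgC, h'⟩
    have heM : e ∈ centralizer ({v} : Set X) ⊓ M :=
      ⟨mem_centralizer_singleton_iff.2 (mem_centralizer_singleton_iff.1 hvM).symm,
        mem_centralizer_singleton_iff.2 rfl⟩
    have he' : g * e * g⁻¹ ∈ M := ((mem_normalizer_iff.1 hgN e).1 heM).2
    have heo : orderOf (g * e * g⁻¹) = 2 := by
      rw [show g * e * g⁻¹ = MulAut.conj g e by simp, MulEquiv.orderOf_eq, he]
    by_cases hc : centralizer ({g * e * g⁻¹} : Set X) = M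
    · exact hgM (h.mem_of_centralizer_conj he hc)
    · refine claim _ heo he' hc r (g * y * g⁻¹) hr hr2
        (by rw [show g * y * g⁻¹ = MulAut.conj g y by simp, MulEquiv.orderOf_eq, hy]) ?_
      rw [centralizer_conj]
      simpa [mul_assoc] using mem_centralizer_singleton_iff.2 hey.eq.symm
  obtain ⟨g, -, hgM⟩ := SetLike.exists_of_lt (h.centralizer_coatom he).1.lt_top
  have hfo : orderOf (g * f * g⁻¹) = 2 := by
    rw [show g * f * g⁻¹ = MulAut.conj g f by simp, MulEquiv.orderOf_eq, hf]
  have hf' : g * f * g⁻¹ ∉ M := fun hin => hgM (by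
    have := h.mem_of_centralizer_conj hf (g := g) (by rw [hall _ hfo hin, hMf])
    rw [hMf] at this
    exact this)
  have hnc : ¬ IsConj e (g * f * g⁻¹) := by
    intro hc
    obtain ⟨a, ha⟩ := isConj_iff.1 hc.symm
    have ha' : (a * g) * f * (a * g)⁻¹ = e := by rw [← ha]; group
    have hag := h.mem_of_centralizer_conj hf (g := a * g) (by rw [ha', hMf])
    exact hne (by rw [← ha', mem_centralizer_singleton_iff.1 hag, mul_inv_cancel_right])
  obtain ⟨k, hk, hke, hkf⟩ := Invol.exists_invol_commute_both he hfo hnc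
  refine hf' ?_
  rw [← hall k hk (mem_centralizer_singleton_iff.2 hke)]
  exact mem_centralizer_singleton_iff.2 hkf.symm

end CfsgLib.FGThirteen
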